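import Cfsg.Agent.StdU.Aut
import Cfsg.Agent.StdL.Set0
import Cfsg.Agent.Mult.UMain

/-! From the hypotheses of S3128 to the standard set-up. -/

set_option autoImplicit false

namespace Cfsg.Agent.StdU

open Subgroup Cfsg.Agent.Class.U Cfsg.Agent.KSG Cfsg.Agent.PLocal.Amb
open Cfsg.Agent.StdL (El Od Uq cjh)
open scoped commutatorElement

variable {F : Type*} [Field F] {m q : ℕ} [UF F q] [CharP F 2]

local notation "𝐡" => hermForm m F q

theorem exists_lift_SU {L : Type*} [Group L] [Finite L] (hL : Cfsg.IsQuasisimple L)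
    (h2 : 2 ∣ Nat.card L) (hm : 6 ≤ m) (hq : m = 6 → q ≠ 2)
    (e : (L ⧸ Cfsg.oddCore L) ≃* Cfsg.PSU m F q) :
    ∃ ψ : SU m F q →* L, Function.Surjective ψ ∧ ∀ g, ψ g = 1 → g ∈ center (SU m F q) := by
  have : Finite (SU m F q) := au_fin
  have : Fact (Nat.Prime 2) := ⟨Nat.prime_two⟩
  let σ : L →* Cfsg.PSU m F q :=
    e.toMonoidHom.comp (QuotientGroup.mk' _)
  have hs : Function.Surjective σ := e.surjective.comp (QuotientGroup.mk'_surjective _)
  have hk : σ.ker = Cfsg.oddCore L := by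
    ext x
    exact e.map_eq_one_iff.trans (QuotientGroup.eq_one_iff x)
  have hc : σ.ker ≤ center L := by
    rw [hk]
    refine (PLocal.qs_normal hL (Cfsg.oddCore L) inferInstance).resolve_left fun h =>
      Grp.not_dvd_card_pPrimeCore 2 L ?_
    rw [show Cfsg.pPrimeCore 2 L = ⊤ from h, card_top]
    exact h2
  obtain ⟨ψ, hψ⟩ := Mult.Cov.exists_lift (G := SU m F q)
    (commutator_eq_top (by omega) (by omega))
    (Mult.mcard_SU (by omega) (by omega) (by omega) hq) hc (QuotientGroup.mk' _)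
    (by rw [MonoidHom.range_eq_top.2 hs]; exact le_top)
  refine ⟨ψ, ?_, fun g hg => ?_⟩
  · have h1 : ∀ x : L, ∃ g, ∃ z ∈ center L, x = ψ g * z := fun x => by
      obtain ⟨g, hg⟩ := QuotientGroup.mk'_surjective _ (σ x)
      refine ⟨g, (ψ g)⁻¹ * x, hc ?_, by group⟩
      rw [MonoidHom.mem_ker, map_mul, map_inv, ← hg, ← hψ]
      exact inv_mul_cancel _
    rw [← MonoidHom.range_eq_top, eq_top_iff, ← hL.1.commutator_eq_top, commutator_def,
      commutator_le]
    intro x _ y _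
    obtain ⟨g, z, hz, rfl⟩ := h1 x
    obtain ⟨h, w, hw, rfl⟩ := h1 y
    refine ⟨⁅g, h⁆, ?_⟩
    rw [Subgroup.mem_center_iff] at hz hw
    rw [map_commutatorElement, commutatorElement_def, commutatorElement_def, _root_.mul_inv_rev,
      _root_.mul_inv_rev]
    have e1 : ψ g * z * (ψ h * w) * (z⁻¹ * (ψ g)⁻¹) * (w⁻¹ * (ψ h)⁻¹) =
        ψ g * (z * (ψ h * w) * z⁻¹) * ((ψ g)⁻¹ * w⁻¹ * (ψ h)⁻¹) := by group
    have e2 : (ψ g)⁻¹ * w⁻¹ = w⁻¹ * (ψ g)⁻¹ := by
      rw [← _root_.mul_inv_rev, ← _root_.mul_inv_rev, hw]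
    rw [e1, ← hz, e2]
    group
  · rw [← QuotientGroup.eq_one_iff]
    have := DFunLike.congr_fun hψ g
    rw [MonoidHom.comp_apply, hg, map_one] at this
    exact this.symm

theorem exists_su {G : Type*} [Group G] [Finite G]
    (hF : IsSimpleGroup ↥(Cfsg.generalizedFittingSubgroup G))
    (hF' : ¬ IsMulCommutative ↥(Cfsg.generalizedFittingSubgroup G)) (L : Subgroup G)
    (hL : Cfsg.IsStandardSubgroup L)
    (hR : ∀ R : Sylow 2 ↥(Subgroup.centralizer (L : Set G)),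
      IsCyclic ↥(R : Subgroup ↥(Subgroup.centralizer (L : Set G))))
    (hm : 6 ≤ m) (hq : m = 6 → q ≠ 2) (hLX : Nonempty ((↥L ⧸ Cfsg.oddCore ↥L) ≃* Cfsg.PSU m F q)) :
    ∃ (ι : SU m F q →* G) (t : G), Su ι t ∧ ι.range ≤ Cfsg.generalizedFittingSubgroup G ∧
      ∃ g, g * t * g⁻¹ ≠ t ∧ g * t * g⁻¹ * t = t * (g * t * g⁻¹) := by
  open Cfsg Cfsg.Agent.PLocal in
  have : Fact (Nat.Prime 2) := ⟨Nat.prime_two⟩
  obtain ⟨e⟩ := hLX
  have q := qs_of_simple hF hF'
  have bot : ∀ N : Subgroup G, N.Normal → ¬ generalizedFittingSubgroup G ≤ N →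
      N ⊓ generalizedFittingSubgroup G = ⊥ := fun N _ h =>
    subgroupOf_eq_bot.1 ((hF.eq_bot_or_eq_top_of_normal (N.subgroupOf _) inferInstance).resolve_right
      fun e => h (subgroupOf_eq_top.1 e)) |>.eq_bot
  have hC : 𝐂[generalizedFittingSubgroup G] = ⊥ := (inf_eq_left.2 (centralizer_fstar_le G)).symm.trans
    (bot _ inferInstance (qsS_not_le_centralizer q))
  have hO : oddCore G = ⊥ := by
    rw [eq_bot_iff, ← hC, ← commutator_eq_bot_iff_le_centralizer, eq_bot_iff,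
      ← bot (oddCore G) inferInstance fun h => Grp.not_dvd_card_pPrimeCore 2 G
        ((two_dvd_card_of_perfect (qsS_commutator q) (qsS_ne_bot q)).trans (card_dvd_of_le h))]
    exact commutator_le_inf _ _
  obtain ⟨t, h1, ht⟩ := Inv.exists_involution_of_even hL.2.1.1
  obtain ⟨ψ, hs, hk⟩ := exists_lift_SU hL.1
    (two_dvd_card_of_perfect (qsS_commutator hL.1) (qsS_ne_bot hL.1)) hm hq e
  have hr : (L.subtype.comp ψ).range = L := by
    rw [MonoidHom.range_comp, MonoidHom.range_eq_top.2 hs, ← MonoidHom.range_eq_map, range_subtype]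
  have t1 : t ≠ 1 := by rintro rfl; simp at ht
  refine ⟨L.subtype.comp ψ, t, ⟨⟨hm, hq, fun g h => hk g
    (Subtype.ext h)⟩, by rw [← sq, ← ht, pow_orderOf_eq_one], t1, fun g => (h1 _ (ψ g).2).symm,
    fun c hc => ?_, fun P hP h2 => ?_⟩, ?_, ?_⟩
  · rw [hr]
    exact Std.centralizer_le hL ht h1 (mem_centralizer_singleton_iff.2 hc)
  · have hP' : P ≤ 𝐂[L] := by
      refine hP.trans ?_
      rw [K0, hr]; exact inf_le_right
    obtain ⟨R, hR'⟩ := (h2.of_equiv (subgroupOfEquivOfLe hP').symm).exists_le_sylow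
    have := hR R
    have := isCyclic_of_le hR'
    exact isCyclic_of_surjective _ (subgroupOfEquivOfLe hP').surjective
  · rw [hr]
    exact (pLayer_eq_layer_of_pPrimeCore_eq_bot hO ▸ Std.le_pLayer hL).trans layer_le_fstar
  · by_contra! h
    have hz := Block.zstar (u := t) ⟨ht, fun g hg => by_contra fun e => h g e hg.eq.symm⟩
    refine t1 (mem_bot.1 (hC ▸ fun x _ => ?_))
    have h3 := hz x
    rw [show pPrimeCore 2 G = ⊥ from hO, mem_bot, mul_inv_eq_one, mul_inv_eq_iff_eq_mul] at h3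
    exact h3.symm

end Cfsg.Agent.StdU
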