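import Cfsg.Agent.StdU.Hat
import Cfsg.Agent.KSG.StSL2

/-! `θ² + θ = d`, either `θ^q = θ + 1` or `θ^q = θ`. `exists_theta`: the `q` elements with
`θ^q = θ + 1` and the `q` elements with `θ^q = θ` are mapped two-to-one by `θ ↦ θ² + θ` into the fixed field, with
disjoint images. `act_X`: with `α = h u f`, `β = h w f`, `η = θ^q + 1`... precisely: put `θ' = θ^q`; then
`(ε + θ')(ε + θ' + 1) = 0`, `ε (ε + θ') = (θ' + 1)(ε + θ')`, and `actS`, `actY` (for `u, θ' w` and `u, w`) multiply to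
`XX u w * XX u (η β x) * XX (η^q α x) w * XX (η^q α x) (η β x)`, `η = θ' + 1`; compute in the elementary abelian
`Vh ⟨x, u, w⟩` with `xh`-coordinates. `XL`, `XR` (field case, `η = θ`): `XX f x = ι (S f (θ^q x)) yy f x`,
`XX x f = ι (S f (θ x)) yy f x`, and `S f (a x)` maps `u ↦ u + a α x`. `functional`: index set `I = Fin 3 ⊕ Fin 3`
(or `Fin 3 × Bool`) with the involution `*`, frame `e i`, `h (e i) (e j) = δ(j, i*)`, `x i j a = XX (e j*) (a • e i)`.
`StSL x`: `XL` for `(x i j, x k l)` needs `i ≠ l`, `i ≠ k*` and multiplies by `x i l` iff `k = j`; `XR` needs `l ≠ j*`,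
`k ≠ j` and multiplies by `x k j` iff `l = i`. `cmt`: `XL` if `i ≠ j*`, else `XR` with the roles swapped. `comm`: the only
uncovered pair is `x i j`, `x i* j*`; write `x i* j* b = ⁅x i* n b, x n j* 1⁆`, `n` in the third pair. The elements
`g i j a ∈ SL` with `IsX (e j*) (a • e i)` also satisfy `StSL` (`exists_isX`, direct), so `StSL.exists_hom` gives
`Φ : SL I F → SL × G`; its first component acts on the frame by the matrix, so is injective, and `Φ.range` is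
functional. `Grf Y ≤ Φ.range`: the range contains `(g, ι g)` for `g = S (e i) (a e j)` (`S_eq_XX`; `j ≠ i*`), so for
`T (e i) a`, all `sg (e i) w a`, `w ∈ Y` (`Ok.mul`), and is closed under conjugation by these (`XX_eqv`). Move `u ≠ 0`
to a multiple of some `e i*` (`exists_siegel_move` at `e i`, `h u (e i) ≠ 0`), write `w = w' + μ e i*` with `w'` in the
span of the other two pairs and move `w'` to a multiple of a frame vector in the same way; `XX_add`. -/

set_option autoImplicit false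
set_option linter.unusedSectionVars false
set_option linter.unusedVariables false
set_option linter.unusedSimpArgs false

namespace Cfsg.Agent.StdU

open Subgroup Cfsg.Agent.Class.U Cfsg.Agent.KSG Cfsg.Agent.PLocal.Amb
open Cfsg.Agent.StdL (El Od Uq cjh)
open scoped commutatorElement

variable {F : Type*} [Field F] {m q : ℕ} [UF F q] [CharP F 2]
  {G : Type*} [Group G] [Finite G] {ι r : SU m F q →* G} {t : G} {c : (Fin m → F) → G}

local notation "𝐡" => hermForm m F q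

variable {u w u' w' f x : Fin m → F} {d θ : F}

theorem exists_theta (hd : d ^ q = d) : ∃ θ : F, θ * θ + θ = d ∧ (θ ^ q = θ ∨ θ ^ q = θ + 1) := by
  obtain ⟨θ, h⟩ := U3S.exists_root (q := q) (ν := d) hd
  refine ⟨θ, h, ?_⟩
  have h1 : θ ^ q * θ ^ q + θ ^ q = d := by rw [← mul_pow, ← lA_add_pow, h, hd]
  have h2 : (θ ^ q - θ) * (θ ^ q - (θ + 1)) = 0 := by grind
  exact (mul_eq_zero.1 h2).imp sub_eq_zero.1 sub_eq_zero.1

/-- `1 + w h(·, u)` -/
noncomputable def gX (q : ℕ) (u w : Fin m → F) : Matrix.SpecialLinearGroup (Fin m) F :=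
  open Classical in
  if h : hermForm m F q w u = 0 then ⟨rk1 q w u, by rw [det_rk1, h, add_zero]⟩ else 1

theorem gX_isX (e : 𝐡 w u = 0) : IsX (q := q) u w (gX q u w) := fun x => by
  have : gX q u w = ⟨rk1 q w u, by rw [det_rk1, e, add_zero]⟩ := dif_pos e
  rw [this]
  exact rk1_mulVec w u x

theorem gA_ext {g g' : Matrix.SpecialLinearGroup (Fin m) F} (h : ∀ x, g.1.mulVec x = g'.1.mulVec x) :
    g = g' := Subtype.ext (mulVec_ext h)

theorem gA_mul (g g' : Matrix.SpecialLinearGroup (Fin m) F) (x : Fin m → F) :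
    (g * g').1.mulVec x = g.1.mulVec (g'.1.mulVec x) := (Matrix.mulVec_mulVec _ _ _).symm

theorem gA_su (g : SU m F q) (x : Fin m → F) :
    (g : Matrix.SpecialLinearGroup (Fin m) F).1.mulVec x = g • x := rfl

theorem exists_isX (e : 𝐡 w u = 0) : ∃ g, IsX (q := q) u w g := ⟨_, gX_isX e⟩

theorem IsX.uniq {g g' : Matrix.SpecialLinearGroup (Fin m) F} (h : IsX (q := q) u w g)
    (h' : IsX (q := q) u w g') : g = g' := gA_ext fun x => by rw [h, h']

theorem gX_add (e : 𝐡 w u = 0) (e' : 𝐡 w' u = 0) : gX q u (w + w') = gX q u w * gX q u w' :=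
  gA_ext fun x => by
    rw [gA_mul, gX_isX e, gX_isX e', gX_isX (by rw [herm_add_left, e, e', add_zero]), herm_add_left,
      herm_smul_left, e']
    ext i; simp only [Pi.add_apply, Pi.smul_apply, Pi.zero_apply, smul_eq_mul]; grind

theorem gX_add_left (e : 𝐡 w u = 0) (e' : 𝐡 w u' = 0) : gX q (u + u') w = gX q u w * gX q u' w :=
  gA_ext fun x => by
    rw [gA_mul, gX_isX e, gX_isX e', gX_isX (by rw [herm_add_right, e, e', add_zero]), herm_add_left,
      herm_smul_left, e, herm_add_right]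
    ext i; simp only [Pi.add_apply, Pi.smul_apply, Pi.zero_apply, smul_eq_mul]; grind

theorem gX_smul (e : 𝐡 w u = 0) (a : F) : gX q (a • u) w = gX q u (a ^ q • w) :=
  gA_ext fun x => by
    rw [gX_isX (by rw [herm_smul_r, e, mul_zero]), gX_isX (by rw [herm_smul_left, e, mul_zero]),
      herm_smul_r, smul_smul, mul_comm]

theorem gX_zero : gX q u 0 = 1 :=
  gA_ext fun x => by rw [gX_isX (herm_zero_left _)]; simp

theorem gX_S (e : O2 q u w) :
    (S q u w : Matrix.SpecialLinearGroup (Fin m) F) = gX q u w * gX q w u :=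
  gA_ext fun x => by
    rw [gA_mul, gX_isX e.rl, gX_isX e.lr, gA_su, S_smul e, herm_add_left, herm_smul_left, e.l]
    ext i; simp only [Pi.add_apply, Pi.smul_apply, Pi.zero_apply, smul_eq_mul]; grind

theorem gX_eqv (e : 𝐡 w u = 0) (g : SU m F q) :
    (g : Matrix.SpecialLinearGroup (Fin m) F) * gX q u w * (g : Matrix.SpecialLinearGroup (Fin m) F)⁻¹ =
      gX q (g • u) (g • w) := by
  rw [mul_inv_eq_iff_eq_mul]
  refine gA_ext fun x => ?_
  rw [gA_mul, gA_mul, gX_isX e, gX_isX (by rw [SU_herm, e]), gA_su, gA_su, SU_herm, smul_add,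
    SU_smul_comm]

theorem gA_XX (ι : SU m F q →* G) (c : (Fin m → F) → G) (θ : F) (u w : Fin m → F) :
    XX ι c θ u w = xh ι c u w (θ ^ q) 1 := by rw [xh, one_smul, XX]

theorem gA_mem {W : Submodule F (Fin m → F)} (hW : TI q W) (hu : u ∈ W) (hw : w ∈ W) :
    XX ι c θ u w ∈ Vh ι c W := gA_XX ι c θ u w ▸ xh_mem_Vh (hW.o2 hu hw) hu hw

theorem gA_ti (e : O2 q u w) (e' : O2 q u w') (e'' : O2 q w w') :
    ∃ W, TI q W ∧ u ∈ W ∧ w ∈ W ∧ w' ∈ W :=
  ⟨Submodule.span F {u, w, w'}, ti_span (by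
    rintro _ (rfl | rfl | rfl) _ (rfl | rfl | rfl)
    exacts [e.l, e.lr, e'.lr, e.rl, e.r, e''.lr, e'.rl, e''.rl, e'.r]),
    Submodule.subset_span (by simp), Submodule.subset_span (by simp), Submodule.subset_span (by simp)⟩

theorem Fam.gA_xh (h : Fam ι t c) (e : O2 q u w) (a b a' b' : F) :
    xh ι c u w a b * xh ι c u w a' b' = xh ι c u w (a + a') (b + b') := by
  have o : ∀ a : F, O2 q u (a • w) := fun a => by simpa using e.smul 1 a
  have o' : ∀ a b : F, O2 q (a • w) (b • w) := (O2.self e.r).smul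
  rw [xh, xh, xh, add_smul, add_smul, S_add (o _) (o _) (o' _ _), map_mul, h.add _ _ _ (o _) (o _) (o' _ _),
    hat_mm (h.el_Vh e.ti) (yy_mem_Vh hat_l (Submodule.smul_mem _ _ hat_r))
      (map_mem_Vh (S_mem_VW (o _) hat_l (Submodule.smul_mem _ _ hat_r)))]

theorem Fam.gA_xh_l (h : Fam ι t c) (e : O2 q u w) (l a b : F) :
    xh ι c (l • u) w a b = xh ι c u w (l ^ q * a) (l ^ q * b) := by
  have o : ∀ a : F, O2 q u (a • w) := fun a => by simpa using e.smul 1 a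
  rw [xh, xh, S_smul_left (o _), h.lin _ _ _ (o _), smul_smul, smul_smul]

theorem gA_xh_r (l a b : F) : xh ι c u (l • w) a b = xh ι c u w (a * l) (b * l) := by
  rw [xh, xh, smul_smul, smul_smul]

theorem gA_cj {a y : G} (h : a * a = 1) : a * y * a = a * y * a⁻¹ := by
  rw [inv_eq_of_mul_eq_one_right h]

theorem gA_yy (hu : 𝐡 u u = 0) (b : F) : yy c u (b • w) = xh ι c u w 0 b := by
  rw [xh, zero_smul, S_zero hu, map_one, one_mul]

theorem Fam.XX_add (h : Fam ι t c) (e : O2 q u w) (e' : O2 q u w') (e'' : O2 q w w') :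
    XX ι c θ u (w + w') = XX ι c θ u w * XX ι c θ u w' := by
  obtain ⟨W, hW, a1, a2, a3⟩ := gA_ti e e' e''
  have b2 := W.smul_mem (θ ^ q) a2
  have b3 := W.smul_mem (θ ^ q) a3
  rw [XX, XX, XX, smul_add, S_add (hW.o2 a1 b2) (hW.o2 a1 b3) (hW.o2 b2 b3), map_mul, h.add _ _ _ e e' e'',
    hat_mm (h.el_Vh hW) (map_mem_Vh (S_mem_VW (hW.o2 a1 b3) a1 b3)) (yy_mem_Vh a1 a2)]

theorem Fam.XX_add_left (h : Fam ι t c) (e : O2 q u w) (e' : O2 q u' w) (e'' : O2 q u u') :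
    XX ι c θ (u + u') w = XX ι c θ u w * XX ι c θ u' w := by
  obtain ⟨W, hW, a1, a2, a3⟩ := gA_ti e'' e e'
  have b := W.smul_mem (θ ^ q) a3
  rw [XX, XX, XX, S_symm (hW.o2 (add_mem a1 a2) b), S_add (hW.o2 b a1) (hW.o2 b a2) e'', map_mul,
    h.yy_add_left e'' e e', ← S_symm (hW.o2 a1 b), ← S_symm (hW.o2 a2 b),
    hat_mm (h.el_Vh hW) (map_mem_Vh (S_mem_VW (hW.o2 a2 b) a2 b)) (yy_mem_Vh a1 a3)]

theorem Fam.XX_smul (h : Fam ι t c) (e : O2 q u w) (a : F) :
    XX ι c θ (a • u) w = XX ι c θ u (a ^ q • w) := by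
  rw [gA_XX, gA_XX, h.gA_xh_l e, gA_xh_r, mul_comm, mul_comm 1]

theorem Fam.XX_sq (h : Fam ι t c) (e : O2 q u w) : XX ι c θ u w * XX ι c θ u w = 1 := h.el_Vh e.ti _ (gA_mem e.ti hat_l hat_r)

theorem Fam.XX_eqv (h : Fam ι t c) (e : O2 q u w) (g : SU m F q) :
    ι g * XX ι c θ u w * (ι g)⁻¹ = XX ι c θ (g • u) (g • w) := by
  rw [XX, XX, ← h.yy_eqv e, ← SU_smul_comm, ← S_conj (by simpa using e.smul 1 (θ ^ q)), map_mul, map_mul,
    map_inv]
  group

theorem Fam.S_eq_XX (h : Fam ι t c) (hθ : θ ^ q = θ + 1) (e : O2 q u w) :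
    ι (S q u w) = XX ι c θ u w * XX ι c θ w u := by
  have o : ∀ a : F, O2 q u (a • w) := fun a => by simpa using e.smul 1 a
  have e1 : XX ι c θ w u = xh ι c u w θ 1 := by
    rw [XX, xh, one_smul, yy_symm h e, S_symm (by simpa using e.symm.smul 1 (θ ^ q)), S_smul_left e,
      lA_pow_pow]
  rw [e1, gA_XX, h.gA_xh e, hθ, xh, CharTwo.add_self_eq_zero, zero_smul, h.yy_zero e.l, mul_one,
    show θ + 1 + θ = 1 by grind, one_smul]

theorem Fam.XX_self (h : Fam ι t c) (hθ : θ ^ q = θ + 1) (hu : 𝐡 u u = 0) :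
    XX ι c θ u (θ • u) = c u := by
  rw [XX, smul_smul, S_self hu, mul_pow, lA_pow_pow, mul_comm θ, CharTwo.add_self_eq_zero, T_zero hu,
    map_one, one_mul, ← h.c_eq hu (by grind)]

theorem Ac.act_X (h : Ac ι t c d) (hθ : θ * θ + θ = d) (e1 : O2 q f x) (e2 : O2 q x u) (e3 : O2 q x w)
    (e4 : O2 q u w) : yy c f x * XX ι c θ u w * yy c f x =
      XX ι c θ (u + ((θ + 1) * 𝐡 u f) • x) (w + ((θ ^ q + 1) * 𝐡 w f) • x) := by
  obtain ⟨W, hW, a1, a2, a3⟩ := gA_ti e2 e3 e4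
  have A := h.el_Vh hW
  have hθ' : θ ^ q * θ ^ q + θ ^ q = d := by rw [← mul_pow, ← lA_add_pow, hθ, h.dq]
  have s1 : ∀ a : F, a • x ∈ W := fun a => W.smul_mem a a1
  have s3 : ∀ a : F, a • w ∈ W := fun a => W.smul_mem a a3
  have mx : ∀ {u w a b}, u ∈ W → w ∈ W → xh ι c u w a b ∈ Vh ι c W := fun hu hw =>
    xh_mem_Vh (hW.o2 hu hw) hu hw
  have y2 := h.yy_sq e1
  have e5 : yy c f x * XX ι c θ u w * yy c f x = yy c f x * ι (S q u (θ ^ q • w)) * yy c f x *
      (yy c f x * yy c u w * yy c f x) := by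
    rw [XX, show ∀ y a b : G, y * a * y * (y * b * y) = y * a * (y * y) * b * y from fun _ _ _ => by group,
      y2, mul_one, mul_assoc _ (ι _)]
  rw [e5, h.actS f x u _ e1 e2 (hW.o2 a1 (s3 _)) (hW.o2 a2 (s3 _)), h.actY f x u w e1 e2 e3 e4,
    h.XX_add_left (hW.o2 a2 (add_mem a3 (s1 _))) (hW.o2 (s1 _) (add_mem a3 (s1 _))) (hW.o2 a2 (s1 _)),
    h.XX_add e4 (hW.o2 a2 (s1 _)) (hW.o2 a3 (s1 _)),
    h.XX_add (hW.o2 (s1 _) a3) (hW.o2 (s1 _) (s1 _)) (hW.o2 a3 (s1 _)), herm_smul_left,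
    gA_yy (ι := ι) e4.l, gA_yy (ι := ι) (hW _ (s1 _) _ (s1 _)),
    hat_mm A (mx (s1 _) (s1 _)) (mul_mem (mul_mem (yy_mem_Vh a2 a3) (mx a2 (s1 _))) (mx (s1 _) a3)),
    hat_mm A (mx (s1 _) a3) (mul_mem (yy_mem_Vh a2 a3) (mx a2 (s1 _))),
    hat_mm A (mx a2 a1) (yy_mem_Vh a2 a3), ← XX, mul_assoc]
  simp only [gA_XX, gA_xh_r, h.gA_xh_l e3, h.gA_xh_l (O2.self e1.r), h.gA_xh e2.symm, h.gA_xh e3,
    h.gA_xh (O2.self e1.r), mul_pow, lA_add_pow, lA_pow_pow, one_pow]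
  generalize θ ^ q = θ' at *
  subst hθ'
  congr 3 <;> grind

theorem Ac.XL (h : Ac ι t c d) (hθ : θ * θ + θ = d) (hθ' : θ ^ q = θ + 1) (e1 : O2 q f x)
    (e2 : O2 q x u) (e3 : O2 q x w) (e4 : O2 q u w) :
    XX ι c θ f x * XX ι c θ u w * XX ι c θ f x = XX ι c θ u (w + 𝐡 w f • x) := by
  have o : O2 q f (θ ^ q • x) := by simpa using e1.smul 1 (θ ^ q)
  have A := h.el_Vh e1.ti
  have a := map_mem_Vh (ι := ι) (c := c) (S_mem_VW o hat_l (Submodule.smul_mem _ _ hat_r))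
  rw [XX, A.comm a (yy_mem_Vh hat_l hat_r), ← mul_assoc, ← A.comm a (yy_mem_Vh hat_l hat_r), mul_assoc (ι _),
    mul_assoc (ι _), h.act_X hθ e1 e2 e3 e4, gA_cj (A _ a),
    h.XX_eqv (by
      obtain ⟨W, hW, a1, a2, a3⟩ := gA_ti e2 e3 e4
      exact hW.o2 (add_mem a2 (W.smul_mem _ a1)) (add_mem a3 (W.smul_mem _ a1)))]
  rw [S_smul o, S_smul o]
  simp only [herm_add_left, herm_smul_left, herm_smul_r, e1.rl, e1.r, e2.rl, e3.rl, hθ']
  congr 1 <;> (ext i; simp only [Pi.add_apply, Pi.smul_apply, Pi.zero_apply, smul_eq_mul]; grind)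

theorem Ac.XR (h : Ac ι t c d) (hθ : θ * θ + θ = d) (hθ' : θ ^ q = θ + 1) (e1 : O2 q f x)
    (e2 : O2 q x u) (e3 : O2 q x w) (e4 : O2 q u w) :
    XX ι c θ x f * XX ι c θ u w * XX ι c θ x f = XX ι c θ (u + 𝐡 u f • x) w := by
  have o : O2 q f (θ • x) := by simpa using e1.smul 1 θ
  have A := h.el_Vh e1.ti
  have a := map_mem_Vh (ι := ι) (c := c) (S_mem_VW o hat_l (Submodule.smul_mem _ _ hat_r))
  rw [XX, S_symm (by simpa using e1.symm.smul 1 (θ ^ q)), S_smul_left e1, lA_pow_pow, ← yy_symm h.toFam e1,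
    A.comm a (yy_mem_Vh hat_l hat_r), ← mul_assoc, ← A.comm a (yy_mem_Vh hat_l hat_r), mul_assoc (ι _),
    mul_assoc (ι _), h.act_X hθ e1 e2 e3 e4, gA_cj (A _ a),
    h.XX_eqv (by
      obtain ⟨W, hW, a1, a2, a3⟩ := gA_ti e2 e3 e4
      exact hW.o2 (add_mem a2 (W.smul_mem _ a1)) (add_mem a3 (W.smul_mem _ a1)))]
  simp only [S_smul o, herm_add_left, herm_smul_left, herm_smul_r, e1.rl, e1.r, e2.rl, e3.rl, hθ']
  congr 1 <;> (ext i; simp only [Pi.add_apply, Pi.smul_apply, Pi.zero_apply, smul_eq_mul]; grind)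

/-- the graph of the partial homomorphism on the transvections supported on `Y` -/
def Grf (ι : SU m F q →* G) (c : (Fin m → F) → G) (θ : F) (Y : Submodule F (Fin m → F)) :
    Subgroup (Matrix.SpecialLinearGroup (Fin m) F × G) :=
  closure {z | ∃ u ∈ Y, ∃ w ∈ Y, O2 q u w ∧ IsX (q := q) u w z.1 ∧ z.2 = XX ι c θ u w}

/-- the relations between the elements `X u w` -/
structure XRl {Γ : Type*} [Group Γ] (q : ℕ) (X : (Fin m → F) → (Fin m → F) → Γ) : Prop where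
  add : ∀ {u w w'}, O2 q u w → O2 q u w' → O2 q w w' → X u (w + w') = X u w * X u w'
  add_left : ∀ {u u' w}, O2 q u w → O2 q u' w → O2 q u u' → X (u + u') w = X u w * X u' w
  smul : ∀ {u w}, O2 q u w → ∀ a : F, X (a • u) w = X u (a ^ q • w)
  sq : ∀ {u w}, O2 q u w → X u w * X u w = 1
  xl : ∀ {f x u w}, O2 q f x → O2 q x u → O2 q x w → O2 q u w →
    X f x * X u w * X f x = X u (w + hermForm m F q w f • x)
  xr : ∀ {f x u w}, O2 q f x → O2 q x u → O2 q x w → O2 q u w →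
    X x f * X u w * X x f = X (u + hermForm m F q u f • x) w

theorem xRl_gX : XRl q (gX q : (Fin m → F) → _) where
  add e e' _ := gX_add e.rl e'.rl
  add_left e e' _ := gX_add_left e.rl e'.rl
  smul e := gX_smul e.rl
  sq e := by rw [← gX_add e.rl e.rl, lA_add_self, gX_zero]
  xl {f x u w} e1 e2 e3 e4 := gA_ext fun v => by
    rw [gA_mul, gA_mul, gX_isX e1.rl, gX_isX e4.rl, gX_isX e1.rl,
      gX_isX (by rw [herm_add_left, herm_smul_left, e4.rl, e2.lr, mul_zero, add_zero])]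
    simp only [herm_add_left, herm_smul_left, e1.rl, e2.lr]
    ext i; simp only [Pi.add_apply, Pi.smul_apply, Pi.zero_apply, smul_eq_mul]; grind
  xr {f x u w} e1 e2 e3 e4 := gA_ext fun v => by
    rw [gA_mul, gA_mul, gX_isX e1.lr, gX_isX e4.rl, gX_isX e1.lr,
      gX_isX (by rw [herm_add_right, herm_smul_r, e4.rl, e3.rl, mul_zero, add_zero])]
    simp only [herm_add_left, herm_smul_left, herm_add_right, herm_smul_r, herm_pow, e1.lr, e3.rl]
    ext i; simp only [Pi.add_apply, Pi.smul_apply, Pi.zero_apply, smul_eq_mul]; grind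

theorem Ac.xRl (h : Ac ι t c d) (hθ : θ * θ + θ = d) (hθ' : θ ^ q = θ + 1) : XRl q (XX ι c θ) :=
  ⟨h.XX_add, h.XX_add_left, h.XX_smul, h.XX_sq, h.XL hθ hθ', h.XR hθ hθ'⟩

theorem XRl.prod {Γ Γ' : Type*} [Group Γ] [Group Γ'] {X : (Fin m → F) → (Fin m → F) → Γ}
    {X' : (Fin m → F) → (Fin m → F) → Γ'} (h : XRl q X) (h' : XRl q X') :
    XRl q fun u w => (X u w, X' u w) :=
  ⟨fun a b c => Prod.ext (h.add a b c) (h'.add a b c),
    fun a b c => Prod.ext (h.add_left a b c) (h'.add_left a b c),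
    fun a b => Prod.ext (h.smul a b) (h'.smul a b), fun a => Prod.ext (h.sq a) (h'.sq a),
    fun a b c d => Prod.ext (h.xl a b c d) (h'.xl a b c d),
    fun a b c d => Prod.ext (h.xr a b c d) (h'.xr a b c d)⟩

/-- a hyperbolic frame of a six-dimensional subspace -/
def Frm (q : ℕ) (e : Fin 3 ⊕ Fin 3 → Fin m → F) : Prop :=
  ∀ i j, hermForm m F q (e i) (e j) = if j = i.swap then 1 else 0

section
variable {e : Fin 3 ⊕ Fin 3 → Fin m → F} {i j k l : Fin 3 ⊕ Fin 3}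

theorem gA_swap_ne (i : Fin 3 ⊕ Fin 3) : i ≠ i.swap := by revert i; decide

theorem gA_swap_inj (h : i ≠ j) : i.swap ≠ j.swap := by revert i j; decide

theorem gA_swap_l (h : i ≠ j.swap) : j ≠ i.swap := by revert i j; decide

theorem Frm.z (he : Frm q e) (h : j ≠ i.swap) : 𝐡 (e i) (e j) = 0 := by rw [he, if_neg h]

theorem Frm.one (he : Frm q e) (i : Fin 3 ⊕ Fin 3) : 𝐡 (e i) (e i.swap) = 1 := by rw [he, if_pos rfl]

theorem Frm.o2 (he : Frm q e) (h : j ≠ i.swap) : O2 q (e i) (e j) :=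
  ⟨he.z (gA_swap_ne _), he.z (gA_swap_ne _), he.z h⟩

theorem Frm.or (he : Frm q e) (h : j ≠ i.swap) (a : F) : O2 q (e i) (a • e j) := by
  simpa using (he.o2 h).smul 1 a

theorem Frm.ox (he : Frm q e) (h : i ≠ j) (a : F) : O2 q (e j.swap) (a • e i) :=
  he.or (by rwa [Sum.swap_swap]) a

theorem XRl.stSL {Γ : Type*} [Group Γ] {X : (Fin m → F) → (Fin m → F) → Γ} (h : XRl q X)
    (he : Frm q e) : StSL fun i j (a : F) => X (e j.swap) (a • e i) := by
  have L : ∀ {i j k l}, i ≠ j → k ≠ l → i ≠ l → k ≠ i.swap → ∀ a b : F,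
      X (e j.swap) (a • e i) * X (e l.swap) (b • e k) * X (e j.swap) (a • e i) =
        X (e l.swap) (b • e k + (b * 𝐡 (e k) (e j.swap) * a) • e i) := fun ij kl il ki a b => by
    rw [h.xl (he.ox ij a) (he.ox il a).symm ((he.o2 ki).smul a b) (he.ox kl b), herm_smul_left, smul_smul]
  have R : ∀ {i j k l}, i ≠ j → k ≠ l → k ≠ j → l ≠ j.swap → ∀ a b : F,
      X (e j.swap) (a • e i) * X (e l.swap) (b • e k) * X (e j.swap) (a • e i) =
        X (e l.swap + (a ^ q * 𝐡 (e l.swap) (e i)) • e j.swap) (b • e k) := fun ij kl kj lj a b => by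
    rw [h.xr (he.ox ij a).symm (he.o2 (gA_swap_inj lj)) (he.ox kj b) (he.ox kl b), herm_smul_r]
  have cm : ∀ {x y : Γ}, x * x = 1 → x * y * x = y → Commute x y := fun {x y} h1 h2 => by
    rw [Commute, SemiconjBy, ← h2, mul_assoc (x * y), h1, mul_one, h2]
  have cL : ∀ {i j k l}, i ≠ j → k ≠ l → i ≠ l → j ≠ k → k ≠ i.swap → ∀ a b : F,
      Commute (X (e j.swap) (a • e i)) (X (e l.swap) (b • e k)) := fun ij kl il jk ki a b =>
    cm (h.sq (he.ox ij a)) (by rw [L ij kl il ki, he.z (gA_swap_inj jk)]; simp)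
  have cR : ∀ {i j k l}, i ≠ j → k ≠ l → i ≠ l → j ≠ k → l ≠ j.swap → ∀ a b : F,
      Commute (X (e j.swap) (a • e i)) (X (e l.swap) (b • e k)) := fun ij kl il jk lj a b =>
    cm (h.sq (he.ox ij a)) (by rw [R ij kl jk.symm lj, he.z (by rwa [Sum.swap_swap])]; simp)
  have ct : ∀ i j l, i ≠ j → j ≠ l → i ≠ l → ∀ a b : F,
      X (e j.swap) (a • e i) * X (e l.swap) (b • e j) * (X (e j.swap) (a • e i))⁻¹ *
        (X (e l.swap) (b • e j))⁻¹ = X (e l.swap) ((a * b) • e i) := fun i j l ij jl il a b => by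
    rw [inv_eq_of_mul_eq_one_right (h.sq (he.ox ij a)), inv_eq_of_mul_eq_one_right (h.sq (he.ox jl b))]
    by_cases hj : j = i.swap
    · rw [mul_assoc, mul_assoc, ← mul_assoc (X (e l.swap) _), R jl ij il (by rw [hj]; exact gA_swap_inj il),
        show 𝐡 (e j.swap) (e j) = 1 by simpa using he.one j.swap, mul_one,
        h.add_left (he.ox ij a) (by simpa using (he.ox il a).smul (b ^ q) 1)
          (he.or (by rw [hj]; simpa using gA_swap_inj il.symm) _),
        ← mul_assoc, h.sq (he.ox ij a), one_mul, h.smul (he.ox il a), lA_pow_pow, smul_smul, mul_comm]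
    · rw [L ij jl il hj, he.one, mul_one, add_comm, h.add (he.ox il _) (he.ox jl _)
        ((he.o2 hj).smul _ _), mul_assoc, h.sq (he.ox jl b), mul_one, mul_comm]
  refine ⟨fun i j ij a b => ?_, fun i j k l ij kl il jk a b => ?_, ct⟩
  · rw [add_smul, h.add (he.ox ij a) (he.ox ij b) ((he.o2 (gA_swap_ne i)).smul a b)]
  by_cases h1 : k = i.swap
  swap
  · exact cL ij kl il jk h1 a b
  by_cases h2 : l = j.swap
  swap
  · exact cR ij kl il jk h2 a b
  obtain ⟨n, n1, n2, n3, n4⟩ : ∃ n, n ≠ i ∧ n ≠ i.swap ∧ n ≠ j ∧ n ≠ j.swap := by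
    clear * -; revert i j; decide
  subst h1 h2
  have := ct _ n _ n2.symm n4 kl b 1
  rw [mul_one] at this
  have a1 := cR ij n2.symm n1.symm jk n4 a b
  have a2 := cL ij n4 il n3.symm n2 a 1
  change Commute _ (X _ _)
  rw [← this]
  exact ((a1.mul_right a2).mul_right a1.inv_right).mul_right a2.inv_right

theorem Frm.coef (he : Frm q e) (v : Fin 3 ⊕ Fin 3 → F) (j : Fin 3 ⊕ Fin 3) :
    𝐡 (∑ i, v i • e i) (e j.swap) = v j := by
  have : ∀ s : Finset (Fin 3 ⊕ Fin 3), 𝐡 (∑ i ∈ s, v i • e i) (e j.swap) =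
      ∑ i ∈ s, v i * 𝐡 (e i) (e j.swap) := fun s => by
    induction s using Finset.induction_on with
    | empty => simp [herm_zero_left]
    | insert a s ha ih => rw [Finset.sum_insert ha, Finset.sum_insert ha, herm_add_left, herm_smul_left, ih]
  rw [this, Finset.sum_eq_single j, he.one, mul_one]
  · intro i _ hi
    rw [he.z (gA_swap_inj hi.symm), mul_zero]
  · simp

theorem Frm.exp (he : Frm q e) (hw : w ∈ Submodule.span F (Set.range e)) :
    w = ∑ i, 𝐡 w (e i.swap) • e i := by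
  obtain ⟨v, rfl⟩ := (Submodule.mem_span_range_iff_exists_fun F).1 hw
  simp only [he.coef]

theorem Frm.inj (he : Frm q e) {Φ : Matrix.SpecialLinearGroup (Fin 3 ⊕ Fin 3) F →*
    Matrix.SpecialLinearGroup (Fin m) F}
    (hΦ : ∀ i j, i ≠ j → ∀ a : F, Φ (tvE i j a) = gX q (e j.swap) (a • e i))
    {M : Matrix.SpecialLinearGroup (Fin 3 ⊕ Fin 3) F} (hM : Φ M = 1) : M = 1 := by
  have := UF.finite (F := F) (q := q)
  let K : Subgroup (Matrix.SpecialLinearGroup (Fin 3 ⊕ Fin 3) F) :=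
    { carrier := {M | ∀ v : Fin 3 ⊕ Fin 3 → F,
        (Φ M).1.mulVec (∑ i, v i • e i) = ∑ i, M.1.mulVec v i • e i}
      mul_mem' := fun {a b} ha hb v => by
        rw [map_mul, gA_mul, hb, ha, Matrix.mulVec_mulVec]; rfl
      one_mem' := fun v => by simp
      inv_mem' := fun {a} ha v => by
        have e1 := ha ((a⁻¹).1.mulVec v)
        rw [Matrix.mulVec_mulVec, ← Matrix.SpecialLinearGroup.coe_mul, mul_inv_cancel] at e1
        simp only [Matrix.SpecialLinearGroup.coe_one, Matrix.one_mulVec] at e1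
        rw [← e1, ← gA_mul, ← map_mul, inv_mul_cancel]
        simp }
  have hK : K = ⊤ := eq_top_of_tvE K fun i j ij a v => by
    rw [hΦ i j ij, gX_isX (he.ox ij a).rl, he.coef, tvE_coe ij, Matrix.add_mulVec, Matrix.one_mulVec,
      Matrix.single_mulVec]
    simp only [Pi.add_apply, add_smul, Finset.sum_add_distrib]
    congr 1
    rw [Finset.sum_eq_single i (fun k _ hk => by simp [hk]) (by simp), smul_smul, mul_comm]
    simp
  have h1 : M ∈ K := hK ▸ mem_top M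
  refine Subtype.ext (Matrix.ext_iff_mulVec.2 fun v => funext fun j => ?_)
  have := congrArg (𝐡 · (e j.swap)) (h1 v)
  simp only [hM, Matrix.SpecialLinearGroup.coe_one, Matrix.one_mulVec, he.coef] at this ⊢
  exact this.symm

end

theorem gA_sg_add {H : Subgroup (SU m F q)} (hu : 𝐡 u u = 0) (hT : ∀ a : F, a ^ q = a → T q u a ∈ H)
    (h : 𝐡 w u = 0 ∧ ∀ a, Ok q u w a → sg q u w a ∈ H)
    (h' : 𝐡 w' u = 0 ∧ ∀ a, Ok q u w' a → sg q u w' a ∈ H) :
    𝐡 (w + w') u = 0 ∧ ∀ a, Ok q u (w + w') a → sg q u (w + w') a ∈ H := by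
  refine ⟨by rw [herm_add_left, h.1, h'.1, add_zero], fun a e => ?_⟩
  obtain ⟨b, hb⟩ := exists_ok hu h.1
  obtain ⟨b', hb'⟩ := exists_ok hu h'.1
  obtain ⟨e1, e2⟩ := hb.mul hb'
  have e3 := e2 ▸ mul_mem (h.2 b hb) (h'.2 b' hb')
  generalize b + b' + 𝐡 w' w = c at e1 e3
  have hc : (c + a) ^ q = c + a := by
    have := e.tr
    have := e1.tr
    rw [lA_add_pow]
    grind
  have := mul_mem e3 (hT _ hc)
  rwa [T, (e1.mul (lA_ok_T hu hc)).2, add_zero, herm_zero_left, add_zero, ← add_assoc,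
    CharTwo.add_self_eq_zero, zero_add] at this

theorem gA_sg_iso {H : Subgroup (SU m F q)} (o : O2 q u w) (hT : ∀ a : F, a ^ q = a → T q u a ∈ H)
    (h : S q u w ∈ H) : 𝐡 w u = 0 ∧ ∀ a, Ok q u w a → sg q u w a ∈ H := by
  refine ⟨o.rl, fun a e => ?_⟩
  have ha : a ^ q = a := by have := e.tr; have := o.r; grind
  rw [o.sg_eq ha]
  exact mul_mem h (hT a ha)

theorem gA_T {H : Subgroup (SU m F q)} (hu : 𝐡 u u = 0) (h : ∀ a : F, S q u (a • u) ∈ H) (a : F)
    (ha : a ^ q = a) : T q u a ∈ H := by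
  obtain ⟨ω, hω⟩ := exists_om (F := F) (q := q)
  have := h (a * ω)
  rwa [S_self hu, mul_pow, ha, ← mul_add, hω, mul_one] at this

theorem gA_move {z y : Fin m → F} (hz : 𝐡 z z = 0) (h1 : 𝐡 x z = 𝐡 y z) (h2 : 𝐡 x z ≠ 0)
    (h3 : 𝐡 x x = 𝐡 y y) : ∃ a, Ok q z ((𝐡 x z)⁻¹ • (y - x)) a ∧ sg q z ((𝐡 x z)⁻¹ • (y - x)) a • x = y := by
  obtain ⟨a, g, hg, e, -⟩ := exists_siegel_move hz h1 h2 h3
  have hw : 𝐡 ((𝐡 x z)⁻¹ • (y - x)) z = 0 := by rw [herm_smul_left, herm_sub_left, h1]; simp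
  have z0 : z ≠ 0 := by rintro rfl; exact h2 (herm_zero_right _)
  exact ⟨a, ⟨hz, hw, hg.cond z0 hz hw⟩, by rwa [lA_sg_eq hg]⟩

theorem Fam.gA_S {Δ : Subgroup (Matrix.SpecialLinearGroup (Fin m) F × G)} (h : Fam ι t c)
    (hθ : θ ^ q = θ + 1) (o : O2 q u w) (h1 : (gX q u w, XX ι c θ u w) ∈ Δ)
    (h2 : (gX q w u, XX ι c θ w u) ∈ Δ) : S q u w ∈ Δ.comap ((SU m F q).subtype.prod ι) := by
  have := mul_mem h1 h2
  rwa [Prod.mk_mul_mk, ← gX_S o, ← h.S_eq_XX hθ o] at this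

theorem Fam.gA_conj {Δ : Subgroup (Matrix.SpecialLinearGroup (Fin m) F × G)} (h : Fam ι t c)
    (o : O2 q u w) {k : SU m F q} (hk : k ∈ Δ.comap ((SU m F q).subtype.prod ι))
    (h1 : (gX q (k • u) (k • w), XX ι c θ (k • u) (k • w)) ∈ Δ) : (gX q u w, XX ι c θ u w) ∈ Δ := by
  rw [← gX_eqv o.rl, ← h.XX_eqv o] at h1
  rw [mem_comap] at hk
  have := mul_mem (mul_mem (inv_mem hk) h1) hk
  simpa [mul_assoc] using this

theorem Ac.gA_mem {Δ : Subgroup (Matrix.SpecialLinearGroup (Fin m) F × G)} (h : Ac ι t c d)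
    (hθ : θ * θ + θ = d) (hθ' : θ ^ q = θ + 1) {e : Fin 3 ⊕ Fin 3 → Fin m → F} (he : Frm q e)
    (hΔ : ∀ i j, i ≠ j → ∀ a : F, (gX q (e j.swap) (a • e i), XX ι c θ (e j.swap) (a • e i)) ∈ Δ)
    (hu : u ∈ Submodule.span F (Set.range e)) (hw : w ∈ Submodule.span F (Set.range e)) (o : O2 q u w) :
    (gX q u w, XX ι c θ u w) ∈ Δ := by
  have R := (xRl_gX (m := m) (F := F) (q := q)).prod (h.xRl hθ hθ')
  have me : ∀ i, e i ∈ Submodule.span F (Set.range e) := fun i => Submodule.subset_span ⟨i, rfl⟩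
  have b0 : ∀ i j, i ≠ j.swap → ∀ a : F, (gX q (e j) (a • e i), XX ι c θ (e j) (a • e i)) ∈ Δ :=
    fun i j ij a => by simpa using hΔ i j.swap ij a
  have b1 : ∀ i j, i ≠ j.swap → ∀ a : F, S q (e j) (a • e i) ∈ Δ.comap ((SU m F q).subtype.prod ι) :=
    fun i j ij a => h.gA_S hθ' (he.or ij a) (b0 i j ij a) (by
      have := R.smul (he.o2 (gA_swap_l ij)) a
      beta_reduce at this
      rw [this]
      exact b0 j i (gA_swap_l ij) _)
  have b2 := fun j => gA_T (he.z (gA_swap_ne j)) (b1 j j (gA_swap_ne j))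
  have b3 : ∀ j, ∀ w ∈ Submodule.span F (Set.range e), 𝐡 w (e j) = 0 →
      𝐡 w (e j) = 0 ∧ ∀ a, Ok q (e j) w a → sg q (e j) w a ∈ Δ.comap ((SU m F q).subtype.prod ι) := by
    intro j w hw h0
    have z : 𝐡 0 (e j) = 0 ∧ ∀ a, Ok q (e j) 0 a →
        sg q (e j) 0 a ∈ Δ.comap ((SU m F q).subtype.prod ι) :=
      gA_sg_iso (O2.zero (he.z (gA_swap_ne j))) (b2 j) (by rw [S_zero (he.z (gA_swap_ne j))]; exact one_mem _)
    rw [he.exp hw]
    refine Finset.sum_induction _ (fun w => 𝐡 w (e j) = 0 ∧ ∀ a, Ok q (e j) w a →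
      sg q (e j) w a ∈ Δ.comap ((SU m F q).subtype.prod ι))
      (fun _ _ => gA_sg_add (he.z (gA_swap_ne j)) (b2 j)) z fun i _ => ?_
    by_cases hi : i = j.swap
    · rw [hi, Sum.swap_swap, h0, zero_smul]
      exact z
    · exact gA_sg_iso (he.or hi _) (b2 j) (b1 i j hi _)
  have mv : ∀ x ∈ Submodule.span F (Set.range e), 𝐡 x x = 0 → ∀ n, 𝐡 x (e n) ≠ 0 →
      ∃ k ∈ Δ.comap ((SU m F q).subtype.prod ι), k • x = 𝐡 x (e n) • e n.swap ∧
        (∀ y ∈ Submodule.span F (Set.range e), k • y ∈ Submodule.span F (Set.range e)) ∧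
        ∀ y, 𝐡 y (e n) = 0 → 𝐡 y (e n.swap) = 0 → 𝐡 y x = 0 → k • y = y := by
    intro x hx x0 n hn
    obtain ⟨a, h1, h2⟩ := gA_move (y := 𝐡 x (e n) • e n.swap) (he.z (gA_swap_ne n))
      (by rw [herm_smul_left, show 𝐡 (e n.swap) (e n) = 1 by simpa using he.one n.swap, mul_one]) hn
      (x0.trans ((O2.self (he.z (gA_swap_ne n.swap))).smul _ 1).l.symm)
    have h3 := Submodule.smul_mem _ (𝐡 x (e n))⁻¹ (sub_mem (Submodule.smul_mem _ (𝐡 x (e n)) (me n.swap)) hx)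
    refine ⟨_, (b3 n _ h3 h1.wu).2 a h1, h2, fun y hy => ?_, fun y y1 y2 y3 => ?_⟩
    · rw [sg_smul h1]
      exact add_mem (add_mem (add_mem hy (Submodule.smul_mem _ _ h3)) (Submodule.smul_mem _ _ (me n)))
        (Submodule.smul_mem _ _ (me n))
    · rw [sg_smul h1]
      simp [herm_smul_r, herm_sub_right, y1, y2, y3]
  have s1 : ∀ j, ∀ w ∈ Submodule.span F (Set.range e), O2 q (e j) w →
      (gX q (e j) w, XX ι c θ (e j) w) ∈ Δ := by
    intro j w hw o
    by_cases hn : ∃ n, n ≠ j.swap ∧ 𝐡 w (e n) ≠ 0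
    · obtain ⟨n, n1, n2⟩ := hn
      have n3 : n ≠ j := by rintro rfl; exact n2 o.rl
      obtain ⟨k, hk, k1, -, k3⟩ := mv w hw o.r n n2
      refine h.gA_conj o hk ?_
      rw [k1, k3 _ (he.z n1) (he.z (gA_swap_inj n3)) o.lr]
      exact b0 _ _ (gA_swap_inj n3) _
    · push Not at hn
      rw [he.exp hw, Finset.sum_eq_single j (fun i _ hi => by rw [hn _ (gA_swap_inj hi), zero_smul]) (by simp)]
      exact b0 _ _ (gA_swap_ne j) _
  by_cases hn : ∃ n, 𝐡 u (e n) ≠ 0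
  · obtain ⟨n, hn⟩ := hn
    obtain ⟨k, hk, k1, k2, -⟩ := mv u hu o.l n hn
    refine h.gA_conj o hk ?_
    have o1 := (o.act k).smul (𝐡 u (e n))⁻¹ 1
    rw [k1, smul_smul, inv_mul_cancel₀ hn, one_smul, one_smul] at o1
    have := R.smul o1 (𝐡 u (e n))
    beta_reduce at this
    rw [k1, this]
    exact s1 _ _ (Submodule.smul_mem _ _ (k2 w hw)) (by simpa using o1.smul 1 _)
  · push Not at hn
    have u0 : u = 0 := by rw [he.exp hu]; simp [hn]
    subst u0
    have := R.add_left o o (O2.self o.l)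
    beta_reduce at this
    rw [add_zero, left_eq_mul] at this
    rw [this]
    exact one_mem _

theorem Ac.functional (h : Ac ι t c d) (hθ : θ * θ + θ = d) (hθ' : θ ^ q = θ + 1)
    {b b' : Fin 3 → Fin m → F} (h1 : ∀ i j, 𝐡 (b i) (b j) = 0) (h2 : ∀ i j, 𝐡 (b' i) (b' j) = 0)
    (h3 : ∀ i j, 𝐡 (b i) (b' j) = if i = j then 1 else 0) {y : G}
    (hy : (1, y) ∈ Grf ι c θ (Submodule.span F (Set.range b ∪ Set.range b'))) : y = 1 := by
  have := UF.finite (F := F) (q := q)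
  have he : Frm q (Sum.elim b b') := by
    rintro (i | i) (j | j)
    · simpa using h1 i j
    · simpa [eq_comm] using h3 i j
    · have := congrArg (· ^ q) (h3 j i)
      simp only [herm_pow] at this
      by_cases e : j = i <;> simpa [e, lA_zero_pow] using this
    · simpa using h2 i j
  obtain ⟨Φ, hΦ⟩ := (((xRl_gX (m := m) (F := F) (q := q)).prod (h.xRl hθ hθ')).stSL he).exists_hom (by simp)
  have : Grf ι c θ (Submodule.span F (Set.range b ∪ Set.range b')) ≤ Φ.range := by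
    rw [Grf, closure_le, ← Set.Sum.elim_range]
    rintro ⟨g, z⟩ ⟨u, hu, w, hw, o, e1, rfl⟩
    obtain rfl : g = _ := e1.uniq (gX_isX o.rl)
    exact h.gA_mem hθ hθ' he (fun i j ij a => ⟨_, hΦ i j ij a⟩) hu hw o
  obtain ⟨M, hM⟩ := this hy
  rw [he.inj (Φ := (MonoidHom.fst _ _).comp Φ) (fun i j ij a => by simp [hΦ i j ij a]) (M := M)
    (by simp [hM]), map_one] at hM
  exact (congrArg Prod.snd hM).symm

end Cfsg.Agent.StdU
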