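import Cfsg.Agent.StdU.GlA
import Cfsg.Agent.StdL.Aut

/-! The field case. `e i` the standard (orthonormal) basis; for `i ≠ j` `p = e i + e j`,
`p' = ω e i + ω^q e j` is a hyperbolic pair. For a set `J` of six indices the coordinate subspace `Y J` is spanned by
three such pairs, so `Grf (Y J)` is functional. In `SL`, `tvE i j a = z' z z'` with `IsX p' (k • p') z'`,
`k = (ω^q)⁻¹`, `IsX p ((κ a) • p) z` for a constant `κ ≠ 0` (`z' p = p + k p'` is a multiple of `e i`). Define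
`x i j a` by the same product of `XX`; then `(tvE i j a, x i j a) ∈ Grf (Y J)` whenever `i, j ∈ J`; every Steinberg relation
involves at most four indices, so follows from `stSL_tvE` and functionality; `StSL.exists_hom` gives `ρ`. An
element `g` with `IsX u w g`, `u, w ∈ Y J`, lies in the group generated by the `tvE i j a`, `i, j ∈ J` (it is a
transvection `tv w φ` supported on `J`: the usual reduction, or the embedding `SL J F → SL`, `eq_top_of_tvE`), so
`(g, ρ g) ∈ Grf (Y J)` and `ρ g = XX u w`. Hence `ρ (T p a) = ι (T p a)` if `p` has at most six nonzero coordinates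
(`T p a = S p (ω a p)`, `S_eq_XX`). The subgroup `H = {g ∈ SU | ρ g = ι g}` moves every isotropic `v` to one with small
support: if `v i, v j ≠ 0` have different norms, `p = v i e i + λ v j e j`, `λ = √(N i / N j)`; if four coordinates
have the same norm `N`, `p = v i e i + v j e j + ω v l e l + ω^q v n e n`; then `T p (h v p)⁻¹ v = v + p` has smaller
support. So `H` contains all `T v 1` (`T_conj`), `closure_T`. `cv`: conjugate by `g ∈ SU` to `p` (`XX_eqv`, `XX_self`).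
`fl2`: `closure_isX`: the `tvE i j a` are products of such elements (above). `ρ g = ι (T v a₀) c (b v)` for
`IsX v (a v) g`, `a = a₀ + b b^q θ`: `gen`. The kernel of `ρ` is normal and misses `T v 1`. `act`: `g ↦ g'` is an
automorphism of `SL` (`exists_adj`); both sides are homomorphisms in `g` and agree on `T v a₀` and on
`IsX v (θ v)` (`g' = g T v 1`, `tr`). `cn`: `cj_Vh`, `gen`. -/

set_option autoImplicit false
set_option linter.unusedSectionVars false
set_option linter.unusedVariables false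
set_option linter.unusedSimpArgs false

namespace Cfsg.Agent.StdU

open Subgroup Cfsg.Agent.Class.U Cfsg.Agent.KSG Cfsg.Agent.PLocal.Amb
open Cfsg.Agent.StdL (El Od Uq cjh)
open scoped commutatorElement

variable {F : Type*} [Field F] {m q : ℕ} [UF F q] [CharP F 2]
  {G : Type*} [Group G] [Finite G] {ι r : SU m F q →* G} {t : G} {c : (Fin m → F) → G}

local notation "𝐡" => hermForm m F q

variable {d θ : F} {ρ : Matrix.SpecialLinearGroup (Fin m) F →* G}

section
variable {u w x v : Fin m → F} {i j k l : Fin m} {ω : F} {s : Finset (Fin m)}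

/-- the standard basis -/
def gE (F : Type*) [Field F] (i : Fin m) : Fin m → F := Pi.single i 1

theorem gE_r (v : Fin m → F) (i : Fin m) : 𝐡 v (gE F i) = v i := herm_single_right v i

theorem gE_self (i : Fin m) : gE F i i = 1 := Pi.single_eq_same _ _

theorem gE_ne (h : j ≠ i) : gE F i j = 0 := Pi.single_eq_of_ne h _

theorem gE_sum (v : Fin m → F) : v = ∑ i, v i • gE F i := by
  ext j
  simp [gE, Pi.single_apply]

theorem gE_tv (h : i ≠ j) (a : F) : tvE i j a = gX q (gE F j) (a • gE F i) :=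
  gA_ext fun v => by
    rw [gX_isX (by rw [herm_smul_left, gE_r, gE_ne h.symm, mul_zero]), gE_r, tvE_coe h, Matrix.add_mulVec,
      Matrix.one_mulVec, Matrix.single_mulVec]
    congr 1
    ext n
    by_cases e : n = i
    · simp [e, gE_self, mul_comm]
    · simp [e, gE_ne e]

/-- a vector with two coordinates -/
def pv (i j : Fin m) (a b : F) : Fin m → F := a • gE F i + b • gE F j

theorem pv_r (v : Fin m → F) (a b : F) : 𝐡 v (pv i j a b) = a ^ q * v i + b ^ q * v j := by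
  rw [pv, herm_add_right, herm_smul_r, herm_smul_r, gE_r, gE_r]

theorem pv_i (h : i ≠ j) (a b : F) : pv i j a b i = a := by simp [pv, gE_self, gE_ne h]

theorem pv_j (h : i ≠ j) (a b : F) : pv i j a b j = b := by simp [pv, gE_self, gE_ne h.symm]

theorem pv_k (h : k ≠ i) (h' : k ≠ j) (a b : F) : pv i j a b k = 0 := by simp [pv, gE_ne h, gE_ne h']

theorem pv_11 (h : i ≠ j) : 𝐡 (pv i j 1 1) (pv i j 1 1) = 0 := by
  rw [pv_r, pv_i h, pv_j h, CharTwo.add_self_eq_zero]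

theorem pv_ww (h : i ≠ j) : 𝐡 (pv i j ω (ω ^ q)) (pv i j ω (ω ^ q)) = 0 := by
  rw [pv_r, pv_i h, pv_j h, lA_pow_pow, mul_comm, CharTwo.add_self_eq_zero]

theorem pv_1w (h : i ≠ j) (hω : ω + ω ^ q = 1) : 𝐡 (pv i j 1 1) (pv i j ω (ω ^ q)) = 1 := by
  rw [pv_r, pv_i h, pv_j h, lA_pow_pow, mul_one, mul_one, add_comm, hω]

theorem gE_eq (hω : ω + ω ^ q = 1) (i j : Fin m) : gE F i = ω ^ q • pv i j 1 1 + pv i j ω (ω ^ q) ∧
    gE F j = ω • pv i j 1 1 + pv i j ω (ω ^ q) := by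
  constructor <;> (rw [pv, pv]; ext n; simp only [Pi.add_apply, Pi.smul_apply, Pi.zero_apply, smul_eq_mul]; grind)

/-- the word giving an elementary transvection -/
def wd {Γ : Type*} [Group Γ] (q : ℕ) (X : (Fin m → F) → (Fin m → F) → Γ) (ω : F) (i j : Fin m) (a : F) : Γ :=
  X (pv i j ω (ω ^ q)) ((ω ^ q)⁻¹ • pv i j ω (ω ^ q)) * X (pv i j 1 1) ((ω ^ q * ω ^ q * a) • pv i j 1 1) *
    X (pv i j ω (ω ^ q)) ((ω ^ q)⁻¹ • pv i j ω (ω ^ q))

theorem wd_gX (h : i ≠ j) (hω : ω + ω ^ q = 1) (a : F) : tvE i j a = wd q (gX q) ω i j a := by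
  have h0 : ω ≠ 0 := by rintro rfl; simp [lA_zero_pow] at hω
  have h1 := inv_mul_cancel₀ (lA_pow_ne (q := q) h0)
  rw [gE_tv (q := q) h]
  refine gA_ext fun v => ?_
  have e1 : ∀ a : F, 𝐡 (a • pv i j ω (ω ^ q)) (pv i j ω (ω ^ q)) = 0 := fun a => by
    rw [herm_smul_left, pv_ww h, mul_zero]
  have e2 : ∀ a : F, 𝐡 (a • pv i j 1 1) (pv i j 1 1) = 0 := fun a => by
    rw [herm_smul_left, pv_11 h, mul_zero]
  rw [wd, gA_mul, gA_mul, gX_isX (e1 _), gX_isX (e2 _), gX_isX (e1 _),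
    gX_isX (by rw [herm_smul_left, gE_r, gE_ne h.symm, mul_zero])]
  simp only [herm_add_left, herm_smul_left, pv_ww h, pv_1w h hω, herm_comm_one (pv_1w h hω), pv_r v, gE_r,
    lA_pow_pow, one_pow]
  generalize (ω ^ q)⁻¹ = κ at *
  simp only [pv]
  generalize ω ^ q = ω' at *
  ext n; simp only [Pi.add_apply, Pi.smul_apply, Pi.zero_apply, smul_eq_mul]; grind

theorem gB_mem {K : Subgroup (Matrix.SpecialLinearGroup (Fin m) F)} (hk : k ∉ s)
    (h : ∀ i ∈ s, ∀ a : F, tvE i k a ∈ K ∧ tvE k i a ∈ K) (hu : ∀ i ∉ s, u i = 0) (hx : ∀ i ∉ s, x i = 0)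
    (e : 𝐡 x u = 0) : gX q u x ∈ K := by
  have h1 : gX q (gE F k) x ∈ K := by
    rw [gE_sum x]
    refine (Finset.sum_induction _ (fun y => 𝐡 y (gE F k) = 0 ∧ gX q (gE F k) y ∈ K) (fun a b ha hb =>
      ⟨by rw [herm_add_left, ha.1, hb.1, add_zero], gX_add ha.1 hb.1 ▸ mul_mem ha.2 hb.2⟩)
      ⟨herm_zero_left _, by rw [gX_zero]; exact one_mem K⟩ fun i _ => ?_).2
    by_cases hi : i ∈ s
    · have ik : i ≠ k := fun e => hk (e ▸ hi)
      exact ⟨by rw [herm_smul_left, gE_r, gE_ne ik.symm, mul_zero], by rw [← gE_tv ik]; exact (h i hi _).1⟩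
    · rw [hx i hi, zero_smul]
      exact ⟨herm_zero_left _, by rw [gX_zero]; exact one_mem K⟩
  have z : gX q 0 (gE F k) = 1 := by
    have := gX_smul (q := q) (u := (0 : Fin m → F)) (w := gE F k) (herm_zero_right _) 0
    rwa [zero_smul, lA_zero_pow, zero_smul, gX_zero] at this
  have h2 : gX q u (gE F k) ∈ K := by
    rw [gE_sum u]
    refine (Finset.sum_induction _ (fun y => 𝐡 (gE F k) y = 0 ∧ gX q y (gE F k) ∈ K) (fun a b ha hb =>
      ⟨by rw [herm_add_right, ha.1, hb.1, add_zero], gX_add_left ha.1 hb.1 ▸ mul_mem ha.2 hb.2⟩)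
      ⟨herm_zero_right _, z ▸ one_mem K⟩ fun i _ => ?_).2
    by_cases hi : i ∈ s
    · have ik : i ≠ k := fun e => hk (e ▸ hi)
      have e1 : 𝐡 (gE F k) (gE F i) = 0 := by rw [gE_r, gE_ne ik]
      exact ⟨by rw [herm_smul_r, e1, mul_zero], by
        rw [gX_smul e1, ← gE_tv ik.symm]; exact (h i hi _).2⟩
    · rw [hu i hi, zero_smul]
      exact ⟨herm_zero_right _, z ▸ one_mem K⟩
  have e1 : 𝐡 x (gE F k) = 0 := by rw [gE_r, hx k hk]
  have e2 : 𝐡 (gE F k) u = 0 := herm_comm_zero (by rw [gE_r, hu k hk])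
  have : gX q u (gE F k) * (gX q (gE F k) x * gX q u (gE F k) * gX q (gE F k) x) = gX q u x :=
    gA_ext fun v => by
      rw [gA_mul, gA_mul, gA_mul, gX_isX e1, gX_isX e2, gX_isX e1, gX_isX e2, gX_isX e]
      simp only [herm_add_left, herm_smul_left, e, e1, e2, gE_r (gE F k), gE_self]
      ext n; simp only [Pi.add_apply, Pi.smul_apply, Pi.zero_apply, smul_eq_mul]; grind
  exact this ▸ mul_mem h2 (mul_mem (mul_mem h1 h2) h1)

theorem gB_grf {Y : Submodule F (Fin m → F)} (hu : u ∈ Y) (hw : w ∈ Y) (o : O2 q u w) :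
    (gX q u w, XX ι c θ u w) ∈ Grf ι c θ Y := subset_closure ⟨u, hu, w, hw, o, gX_isX o.rl, rfl⟩

theorem Ac.gB_fun (h : Ac ι t c d) (hθ : θ * θ + θ = d) (hθ' : θ ^ q = θ + 1) (hω : ω + ω ^ q = 1)
    (hs : s.card ≤ 6) : ∃ Δ : Subgroup (Matrix.SpecialLinearGroup (Fin m) F × G),
      (∀ g g' y y', (g, y) ∈ Δ → (g', y') ∈ Δ → g = g' → y = y') ∧
      (∀ u w, (∀ i ∉ s, u i = 0) → (∀ i ∉ s, w i = 0) → O2 q u w → (gX q u w, XX ι c θ u w) ∈ Δ) ∧
      ∀ i ∈ s, ∀ j ∈ s, i ≠ j → ∀ a, (tvE i j a, wd q (XX ι c θ) ω i j a) ∈ Δ := by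
  obtain ⟨s', s1, s2⟩ := Finset.exists_superset_card_eq hs (by simpa using h.m6)
  obtain ⟨φ⟩ : Nonempty (Fin 3 ⊕ Fin 3 ≃ s') := Fintype.card_eq.1 (by simp [s2])
  have ne : ∀ {a b}, a ≠ b → (φ a : Fin m) ≠ φ b := fun e e' => e (φ.injective (Subtype.ext e'))
  have orth : ∀ {n n' : Fin 3}, n ≠ n' → ∀ a b a' b' : F, 𝐡 (pv (φ (.inl n)).1 (φ (.inr n)) a b)
      (pv (φ (.inl n')).1 (φ (.inr n')) a' b') = 0 := fun e a b a' b' => by
    rw [pv_r, pv_k (ne (by simpa using e.symm)) (ne (by simp)), pv_k (ne (by simp)) (ne (by simpa using e.symm))]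
    simp
  have fn := @h.functional _ _ _ _ _ _ _ _ _ _ _ _ _ θ hθ hθ' (fun n => pv (φ (.inl n)).1 (φ (.inr n)) 1 1)
    (fun n => pv (φ (.inl n)).1 (φ (.inr n)) ω (ω ^ q))
    (fun n n' => by
      rcases eq_or_ne n n' with rfl | e
      exacts [pv_11 (ne (by simp)), orth e ..])
    (fun n n' => by
      rcases eq_or_ne n n' with rfl | e
      exacts [pv_ww (ne (by simp)), orth e ..])
    (fun n n' => by
      rcases eq_or_ne n n' with rfl | e
      · rw [if_pos rfl, pv_1w (ne (by simp)) hω]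
      · rw [if_neg e, orth e])
  generalize hY : Submodule.span F (Set.range (fun n => pv (φ (.inl n)).1 (φ (.inr n)) (1 : F) 1) ∪
    Set.range fun n => pv (φ (.inl n)).1 (φ (.inr n)) ω (ω ^ q)) = Y at fn
  have m1 : ∀ n, pv (φ (.inl n)).1 (φ (.inr n)) 1 1 ∈ Y := fun n =>
    hY ▸ Submodule.subset_span (.inl ⟨n, rfl⟩)
  have m2 : ∀ n, pv (φ (.inl n)).1 (φ (.inr n)) ω (ω ^ q) ∈ Y := fun n =>
    hY ▸ Submodule.subset_span (.inr ⟨n, rfl⟩)
  have m3 : ∀ i ∈ s, gE F i ∈ Y := fun i hi => by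
    obtain ⟨n | n, e⟩ := φ.surjective ⟨i, s1 hi⟩ <;> obtain rfl : _ = i := congrArg Subtype.val e
    · rw [(gE_eq hω _ (φ (.inr n))).1]
      exact add_mem (Y.smul_mem _ (m1 n)) (m2 n)
    · rw [(gE_eq hω (φ (.inl n)).1 _).2]
      exact add_mem (Y.smul_mem _ (m1 n)) (m2 n)
  have m4 : ∀ u, (∀ i ∉ s, u i = 0) → u ∈ Y := fun u hu => by
    rw [gE_sum u]
    refine Y.sum_mem fun i _ => ?_
    by_cases hi : i ∈ s
    · exact Y.smul_mem _ (m3 i hi)
    · rw [hu i hi, zero_smul]; exact Y.zero_mem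
  refine ⟨Grf ι c θ Y, fun g g' y y' a b e => ?_, fun u w hu hw => gB_grf (m4 u hu) (m4 w hw),
    fun i hi j hj ij a => ?_⟩
  · subst e
    have := mul_mem (inv_mem a) b
    rw [Prod.inv_mk, Prod.mk_mul_mk, inv_mul_cancel] at this
    exact inv_mul_eq_one.1 (fn this)
  · have p : ∀ a b, pv i j a b ∈ Y := fun a b =>
      add_mem (Y.smul_mem _ (m3 i hi)) (Y.smul_mem _ (m3 j hj))
    have o : ∀ {v : Fin m → F}, 𝐡 v v = 0 → ∀ a : F, O2 q v (a • v) := fun e a => by
      simpa using (O2.self e).smul 1 a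
    have a1 := gB_grf (ι := ι) (c := c) (θ := θ) (p ω (ω ^ q)) (Y.smul_mem (ω ^ q)⁻¹ (p _ _)) (o (pv_ww ij) _)
    rw [wd_gX ij hω]
    exact mul_mem (mul_mem a1 (gB_grf (p 1 1) (Y.smul_mem _ (p _ _)) (o (pv_11 ij) _))) a1

theorem Ac.gB_rho (h : Ac ι t c d) (hθ : θ * θ + θ = d) (hθ' : θ ^ q = θ + 1) :
    ∃ ρ : Matrix.SpecialLinearGroup (Fin m) F →* G, ∀ s : Finset (Fin m), s.card ≤ 5 → ∀ u w,
      (∀ i ∉ s, u i = 0) → (∀ i ∉ s, w i = 0) → O2 q u w → ρ (gX q u w) = XX ι c θ u w := by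
  have := UF.finite (F := F) (q := q)
  obtain ⟨ω, hω⟩ := exists_om (F := F) (q := q)
  have R := stSL_tvE (ι := Fin m) (F := F)
  have c4 : ∀ i j k l : Fin m, ({i, j, k, l} : Finset _).card ≤ 6 := fun i j k l =>
    Finset.card_le_four.trans (by omega)
  have : StSL (wd q (XX ι c θ) ω) := by
    refine ⟨fun i j ij a b => ?_, fun i j k l ij kl il jk a b => ?_, fun i j l ij jl il a b => ?_⟩
    · obtain ⟨Δ, f, -, p⟩ := h.gB_fun hθ hθ' hω (c4 i j i j)
      have p1 := p i (by simp) j (by simp) ij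
      exact f _ _ _ _ (mul_mem (p1 a) (p1 b)) (p1 _) (R.add i j ij a b)
    · obtain ⟨Δ, f, -, p⟩ := h.gB_fun hθ hθ' hω (c4 i j k l)
      have p1 := p i (by simp) j (by simp) ij a
      have p2 := p k (by simp) l (by simp) kl b
      exact f _ _ _ _ (mul_mem p1 p2) (mul_mem p2 p1) (R.comm i j k l ij kl il jk a b)
    · obtain ⟨Δ, f, -, p⟩ := h.gB_fun hθ hθ' hω (c4 i j l l)
      have p1 := p i (by simp) j (by simp) ij a
      have p2 := p j (by simp) l (by simp) jl b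
      exact f _ _ _ _ (mul_mem (mul_mem (mul_mem p1 p2) (inv_mem p1)) (inv_mem p2))
        (p i (by simp) l (by simp) il _) (R.cmt i j l ij jl il a b)
  obtain ⟨ρ, hρ⟩ := this.exists_hom (by have := h.m6; simp; omega)
  refine ⟨ρ, fun s hs u w hu hw o => ?_⟩
  obtain ⟨k, -, hk⟩ := Finset.exists_mem_notMem_of_card_lt_card (s := s) (t := Finset.univ)
    (by have := h.m6; simp; omega)
  obtain ⟨Δ, f, p1, p⟩ := h.gB_fun hθ hθ' hω (s := insert k s) ((Finset.card_insert_le _ _).trans (by omega))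
  have : gX q u w ∈ Δ.comap ((MonoidHom.id _).prod ρ) := gB_mem hk (fun i hi a => by
    have ik : i ≠ k := fun e => hk (e ▸ hi)
    constructor
    · simpa [hρ i k ik] using p i (by simp [hi]) k (by simp) ik a
    · simpa [hρ k i ik.symm] using p k (by simp) i (by simp [hi]) ik.symm a) hu hw o.rl
  exact f _ _ _ _ this (p1 u w (fun i hi => hu i fun e => hi (by simp [e]))
    (fun i hi => hw i fun e => hi (by simp [e])) o) rfl

theorem gB_top (hm : 4 ≤ m) {D : Subgroup (SU m F q)} (h : ∀ s : Finset (Fin m), s.card ≤ 4 → ∀ u w,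
    (∀ i ∉ s, u i = 0) → (∀ i ∉ s, w i = 0) → O2 q u w → S q u w ∈ D) : D = ⊤ := by
  obtain ⟨ω, hω⟩ := exists_om (F := F) (q := q)
  have o : ∀ {v : Fin m → F}, 𝐡 v v = 0 → ∀ a : F, O2 q v (a • v) := fun e a => by
    simpa using (O2.self e).smul 1 a
  have sp : ∀ {i j : Fin m} {s : Finset (Fin m)}, i ∈ s → j ∈ s → ∀ a b c : F, ∀ n ∉ s,
      (c • pv i j a b) n = 0 := fun hi hj a b c n hn => by
    rw [Pi.smul_apply, pv_k (ne_of_mem_of_not_mem hi hn).symm (ne_of_mem_of_not_mem hj hn).symm, smul_zero]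
  have sp' : ∀ {i j : Fin m} {s : Finset (Fin m)}, i ∈ s → j ∈ s → ∀ a b : F, ∀ n ∉ s,
      pv i j a b n = 0 := fun hi hj a b => by simpa using sp hi hj a b 1
  have s1 : ∀ {i j : Fin m} {a b : F}, 𝐡 (pv i j a b) (pv i j a b) = 0 → ∀ c : F,
      S q (pv i j a b) (c • pv i j a b) ∈ D := fun {i j a b} e c =>
    h {i, j} (Finset.card_le_two.trans (by omega)) _ _ (sp' (by simp) (by simp) _ _)
      (sp (by simp) (by simp) _ _ _) (o e c)
  have d1 : ∀ {i j : Fin m}, i ≠ j → ∀ w, 𝐡 w (pv i j 1 1) = 0 →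
      𝐡 w (pv i j 1 1) = 0 ∧ ∀ a, Ok q (pv i j 1 1) w a → sg q (pv i j 1 1) w a ∈ D := by
    intro i j ij w hw
    have t1 := gA_T (pv_11 ij) (s1 (pv_11 ij))
    have e1 : w = w i • pv i j 1 1 + ∑ l, (w + w i • pv i j 1 1 : Fin m → F) l • gE F l := by
      rw [← gE_sum, add_comm w, ← add_assoc, lA_add_self, zero_add]
    rw [e1]
    refine gA_sg_add (pv_11 ij) t1 (gA_sg_iso (o (pv_11 ij) _) t1 (s1 (pv_11 ij) _)) ?_
    have z := gA_sg_iso (O2.zero (pv_11 ij)) t1 (by rw [S_zero (pv_11 ij)]; exact one_mem _)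
    refine Finset.sum_induction _ (fun w => 𝐡 w (pv i j 1 1) = 0 ∧
      ∀ a, Ok q (pv i j 1 1) w a → sg q (pv i j 1 1) w a ∈ D) (fun _ _ => gA_sg_add (pv_11 ij) t1) z
      fun l _ => ?_
    rw [pv_r, one_pow, one_mul, one_mul] at hw
    by_cases li : l = i
    · rwa [li, Pi.add_apply, Pi.smul_apply, pv_i ij, smul_eq_mul, mul_one, CharTwo.add_self_eq_zero, zero_smul]
    by_cases lj : l = j
    · rwa [lj, Pi.add_apply, Pi.smul_apply, pv_j ij, smul_eq_mul, mul_one, add_comm, hw, zero_smul]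
    obtain ⟨n, -, hn⟩ := Finset.exists_mem_notMem_of_card_lt_card (s := {i, j, l}) (t := Finset.univ)
      (Finset.card_le_three.trans_lt (by simp; omega))
    simp only [Finset.mem_insert, Finset.mem_singleton, not_or] at hn
    have k1 : ∀ a b c : F, 𝐡 (pv l n a b) (pv l n a b) = 0 → 𝐡 (c • pv l n a b) (pv i j 1 1) = 0 ∧
        ∀ a', Ok q (pv i j 1 1) (c • pv l n a b) a' → sg q (pv i j 1 1) (c • pv l n a b) a' ∈ D :=
      fun a b c e => by
        have o1 : O2 q (pv i j 1 1) (c • pv l n a b) := by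
          simpa using O2.smul ⟨pv_11 ij, e, by rw [pv_r, pv_k li lj, pv_k hn.1 hn.2.1]; simp⟩ 1 c
        exact gA_sg_iso o1 t1 (h {i, j, l, n} Finset.card_le_four _ _ (sp' (by simp) (by simp) _ _)
          (sp (by simp) (by simp) _ _ _) o1)
    rw [(gE_eq hω l n).1, smul_add, smul_smul]
    exact gA_sg_add (pv_11 ij) t1 (k1 _ _ _ (pv_11 (Ne.symm hn.2.2))) (k1 _ _ _ (pv_ww (Ne.symm hn.2.2)))
  have d2 : ∀ v, 𝐡 v v = 0 → ∀ i j, v i ≠ v j → T q v 1 ∈ D := by
    intro v v0 i j e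
    have ij : i ≠ j := fun e' => e (e' ▸ rfl)
    have e1 : 𝐡 v (pv i j 1 1) ≠ 0 := by
      rw [pv_r, one_pow, one_mul, one_mul]
      exact fun e' => e (by grind)
    obtain ⟨a, h1, h2⟩ := gA_move (y := 𝐡 v (pv i j 1 1) • pv i j ω (ω ^ q)) (pv_11 ij)
      (by rw [herm_smul_left, herm_comm_one (pv_1w ij hω), mul_one]) e1
      (v0.trans ((O2.self (pv_ww ij)).smul _ 1).l.symm)
    have h3 := (d1 ij _ h1.wu).2 a h1
    generalize sg q _ _ a = g at h2 h3
    have h4 := T_conj v0 (one_pow q) g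
    rw [h2, T_smul_vec (pv_ww ij) (one_pow q)] at h4
    have := mul_mem (mul_mem (inv_mem h3) (h4 ▸ gA_T (pv_ww ij) (s1 (pv_ww ij)) _ (by
      rw [mul_one, mul_pow, lA_pow_pow, mul_comm]))) h3
    simpa [mul_assoc] using this
  rw [eq_top_iff, ← closure_T hm, closure_le]
  rintro _ ⟨v, v0, rfl⟩
  by_cases e : ∃ i j, v i ≠ v j
  · obtain ⟨i, j, e⟩ := e
    exact d2 v v0 i j e
  push Not at e
  obtain ⟨i, j, k, ij, ik, jk⟩ := Fintype.two_lt_card_iff.1 (show 2 < Fintype.card (Fin m) by simp; omega)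
  have o1 : O2 q (pv i j 1 1) v := ⟨pv_11 ij, v0, herm_comm_zero (by
    rw [pv_r, e i j, CharTwo.add_self_eq_zero])⟩
  have h1 := d2 _ (by simpa using o1.iso 1 1) i k (by
    rw [Pi.add_apply, Pi.add_apply, pv_i ij, pv_k ik.symm jk.symm, e i k]; simp)
  rw [T_add_vec o1] at h1
  have := mul_mem (mul_mem (inv_mem (gA_T (pv_11 ij) (s1 (pv_11 ij)) 1 (one_pow q))) h1)
    (inv_mem ((d1 ij v o1.rl).2 0 o1.ok))
  simpa [mul_assoc, S] using this

end

theorem Ac.fld (h : Ac ι t c d) (hθ : θ * θ + θ = d) (hθ' : θ ^ q = θ + 1) :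
    ∃ ρ, Fld ι t c θ ρ := by
  obtain ⟨ρ, hρ⟩ := h.gB_rho hθ hθ'
  have hm := h.m6
  have top : ρ.graph.comap ((SU m F q).subtype.prod ι) = ⊤ := gB_top (by omega) fun s hs u w hu hw o =>
    h.gA_S hθ' o (hρ s (by omega) u w hu hw o) (hρ s (by omega) w u hw hu o.symm)
  have ext : ∀ g : SU m F q, ρ g = ι g := fun g => top.ge (mem_top g)
  refine ⟨ρ, h.toFam, hθ', ext, fun v g v0 hg => ?_⟩
  have o : ∀ {v : Fin m → F}, 𝐡 v v = 0 → O2 q v (θ • v) := fun e => by simpa using (O2.self e).smul 1 θ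
  rw [hg.uniq (gX_isX (o v0).rl)]
  rcases eq_or_ne v 0 with rfl | h0
  · rw [smul_zero, gX_zero, map_one, h.c0]
  obtain ⟨i, j, ij⟩ := Fintype.one_lt_card_iff.1 (show 1 < Fintype.card (Fin m) by simp; omega)
  have p0 := pv_11 (F := F) (q := q) ij
  obtain ⟨k, rfl⟩ := exists_SU_smul_eq (by omega) (fun e => one_ne_zero ((pv_i ij 1 1).symm.trans
    (congrFun e i))) h0 p0 v0
  have sp : ∀ n ∉ ({i, j} : Finset _), pv i j (1 : F) 1 n = 0 := fun n hn =>
    pv_k (fun e => hn (by simp [e])) (fun e => hn (by simp [e])) _ _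
  rw [← SU_smul_comm, ← gX_eqv (o p0).rl, map_mul, map_mul, map_inv, ext,
    hρ {i, j} (Finset.card_le_two.trans (by omega)) _ _ sp (fun n hn => by simp [sp n hn]) (o p0),
    h.XX_self hθ' p0, h.eqv _ _ p0]

theorem closure_isX (hm : 2 ≤ m) : closure {g : Matrix.SpecialLinearGroup (Fin m) F |
    ∃ (v : Fin m → F) (a : F), 𝐡 v v = 0 ∧ IsX (q := q) v (a • v) g} = ⊤ := by
  have := UF.finite (F := F) (q := q)
  obtain ⟨ω, hω⟩ := exists_om (F := F) (q := q)
  refine eq_top_of_tvE _ fun i j ij a => ?_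
  have k : ∀ (v : Fin m → F) (a : F), 𝐡 v v = 0 → gX q v (a • v) ∈ closure {g | ∃ (v : Fin m → F) (a : F),
      𝐡 v v = 0 ∧ IsX (q := q) v (a • v) g} := fun v a e =>
    subset_closure ⟨v, a, e, gX_isX (by rw [herm_smul_left, e, mul_zero])⟩
  rw [wd_gX ij hω]
  exact mul_mem (mul_mem (k _ _ (pv_ww ij)) (k _ _ (pv_11 ij))) (k _ _ (pv_ww ij))

theorem gB_adj (g : Matrix.SpecialLinearGroup (Fin m) F) : ∃ g', Adj (q := q) g g' := by
  refine ⟨⟨(g⁻¹).1.transpose.map (conj F q), ?_⟩, fun u v => ?_⟩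
  · rw [← RingHom.mapMatrix_apply, ← RingHom.map_det, Matrix.det_transpose, (g⁻¹).2, map_one]
  · have : (fun j => ((g⁻¹).1.transpose.map (conj F q)).mulVec v j ^ q) =
        (g⁻¹).1.transpose.mulVec fun j => v j ^ q := by
      ext j
      simp only [← conj_apply, Matrix.mulVec, dotProduct, map_sum, map_mul, Matrix.map_apply, conj_conj]
    rw [herm_eq_dotProduct, herm_eq_dotProduct, this, dotProduct_comm, Matrix.mulVec_transpose,
      ← Matrix.dotProduct_mulVec, ← gA_mul, inv_mul_cancel, dotProduct_comm]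
    simp

theorem Adj.symm {g g' : Matrix.SpecialLinearGroup (Fin m) F} (h : Adj (q := q) g g') : Adj (q := q) g' g :=
  fun u v => by rw [← herm_pow, h, herm_pow]

theorem Adj.uniq {g g' k : Matrix.SpecialLinearGroup (Fin m) F} (h : Adj (q := q) g g')
    (h' : Adj (q := q) g k) : g' = k := gA_ext fun v => sub_eq_zero.1 <| eq_zero_of_herm_right (q := q) fun u => by
  have : u = g.1.mulVec ((g⁻¹).1.mulVec u) := by rw [← gA_mul, mul_inv_cancel]; simp
  rw [this, herm_sub_right, h, h', sub_self]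

theorem Adj.mul {g g' k k' : Matrix.SpecialLinearGroup (Fin m) F} (h : Adj (q := q) g g')
    (h' : Adj (q := q) k k') : Adj (q := q) (g * k) (g' * k') := fun u v => by rw [gA_mul, gA_mul, h, h']

theorem exists_adj : ∃ α : MulAut (Matrix.SpecialLinearGroup (Fin m) F),
    ∀ g g', Adj (q := q) g g' ↔ α g = g' := by
  choose f hf using gB_adj (m := m) (F := F) (q := q)
  exact ⟨{ toFun := f
           invFun := f
           left_inv := fun g => (hf _).uniq (hf g).symm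
           right_inv := fun g => (hf _).uniq (hf g).symm
           map_mul' := fun g k => (hf _).uniq ((hf g).mul (hf k)) },
    fun g g' => ⟨(hf g).uniq, fun e => e ▸ hf g⟩⟩

theorem adj_self {g : Matrix.SpecialLinearGroup (Fin m) F} : Adj (q := q) g g ↔ g ∈ SU m F q := mem_SU_iff.symm

theorem gB_T {v : Fin m → F} (hv : 𝐡 v v = 0) {a : F} (ha : a ^ q = a) :
    (T q v a : Matrix.SpecialLinearGroup (Fin m) F) = gX q v (a • v) := gA_ext fun x => by
  rw [gA_su, T_smul hv ha, gX_isX (by rw [herm_smul_left, hv, mul_zero]), smul_smul, mul_comm]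

theorem gB_gen (hm : 2 ≤ m) (hθ : θ ^ q = θ + 1) {K : Subgroup (Matrix.SpecialLinearGroup (Fin m) F)}
    (h1 : ∀ g : SU m F q, g.1 ∈ K) (h2 : ∀ v, 𝐡 v v = 0 → gX q v (θ • v) ∈ K) : K = ⊤ := by
  rw [eq_top_iff, ← closure_isX (q := q) hm, closure_le]
  rintro g ⟨v, a, v0, hg⟩
  have z : ∀ a : F, 𝐡 (a • v) v = 0 := fun a => by rw [herm_smul_left, v0, mul_zero]
  obtain ⟨b, hb⟩ := exists_norm (q := q) (a := a + a ^ q) (by rw [lA_add_pow, lA_pow_pow, add_comm])
  have e1 := h2 _ ((O2.self v0).smul b b).l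
  rw [smul_smul, gX_smul (z _), smul_smul] at e1
  have := mul_mem (h1 (T q v (a + (a + a ^ q) * θ))) e1
  rwa [gB_T v0 (by rw [lA_add_pow, mul_pow, lA_add_pow, lA_pow_pow, hθ]; grind), ← gX_add (z _) (z _),
    ← add_smul, show a + (a + a ^ q) * θ + b ^ q * (θ * b) = a by grind, ← hg.uniq (gX_isX (z a))] at this

theorem Fld.fl2 (h : Fld ι t c θ ρ) : Fl2 ι t c θ ρ := by
  have := UF.finite (F := F) (q := q)
  have hm := h.m6
  have z : ∀ {v : Fin m → F}, 𝐡 v v = 0 → ∀ a : F, 𝐡 (a • v) v = 0 := fun v0 a => by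
    rw [herm_smul_left, v0, mul_zero]
  have cv : ∀ v, 𝐡 v v = 0 → ρ (gX q v (θ • v)) = c v := fun v v0 => h.cv v _ v0 (gX_isX (z v0 θ))
  have gen : ∀ H : Subgroup G, ι.range ≤ H → (∀ v, 𝐡 v v = 0 → c v ∈ H) → ρ.range ≤ H := by
    rintro H h1 h2 _ ⟨g, rfl⟩
    exact (gB_gen (K := H.comap ρ) (by omega) h.θq (fun g => by rw [mem_comap, h.ext]; exact h1 ⟨g, rfl⟩)
      fun v v0 => by rw [mem_comap, cv v v0]; exact h2 v v0).ge (mem_top g)
  refine ⟨h, ⟨by simp; omega, .inr (by simp; omega), fun g hg => ?_⟩, fun g g' e => ?_, gen, fun n hn => ?_⟩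
  · rcases (Class.PSL_isSimpleGroup (ι := Fin m) (F := F) (by simp; omega)).eq_bot_or_eq_top_of_normal
      (ρ.ker.map (QuotientGroup.mk' (center _))) (.map inferInstance _ (QuotientGroup.mk'_surjective _)) with e | e
    · rw [Subgroup.map_eq_bot_iff, QuotientGroup.ker_mk'] at e
      exact e hg
    refine (center_ne_top (F := F) (q := q) (n := m) (by omega) (eq_top_iff.2 fun x _ =>
      h.toRp.mem_center fun y => ?_)).elim
    obtain ⟨k, hk, e1⟩ := e.ge (mem_top (QuotientGroup.mk x.1))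
    have e2 : ρ (k⁻¹ * x) = ι x := by rw [map_mul, map_inv, MonoidHom.mem_ker.1 hk, h.ext]; simp
    rw [← e2, ← h.ext, ← map_mul, ← map_mul, Subgroup.mem_center_iff.1 (QuotientGroup.eq.1 e1)]
  · obtain ⟨α, hα⟩ := exists_adj (m := m) (F := F) (q := q)
    have ti := inv_eq_of_mul_eq_one_right h.tt
    have := (gB_gen (K := ((MulAut.conj t).toMonoidHom.comp ρ).eqLocus (ρ.comp α.toMonoidHom)) (by omega) h.θq
      (fun g => ?_) fun v v0 => ?_).ge (mem_top g)
    · rw [← (hα g g').1 e, gA_cj h.tt]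
      exact this
    · change t * ρ g * t⁻¹ = ρ (α g)
      rw [(hα _ _).1 (adj_self.2 g.2), h.ext, h.tc, mul_inv_cancel_right]
    · change t * ρ _ * t⁻¹ = ρ (α _)
      have a : Adj (q := q) (gX q v (θ • v)) (gX q v ((1 + θ) • v)) := fun x y => by
        rw [gX_isX (z v0 _), gX_isX (z v0 _)]
        simp only [herm_add_left, herm_add_right, herm_smul_left, herm_smul_r, v0, herm_pow, lA_add_pow, h.θq,
          one_pow]
        grind
      rw [(hα _ _).1 a, add_smul, gX_add (z v0 _) (z v0 _), ← gB_T v0 (one_pow q), map_mul, h.ext, cv v v0, ti,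
        ← mul_left_inj (c v), mul_assoc (ι _), h.sq v v0, mul_one, mul_assoc, mul_assoc, ← mul_assoc (c v),
        h.tr v v0, ← mul_assoc, h.tt, one_mul]
  · obtain ⟨s, γ, hγ, hi⟩ := h.toSu.ac hn
    refine mem_normalizer_of_cj_le (cj_le_iff_forall.2 (gen (ρ.range.comap (MulAut.conj n).toMonoidHom) ?_
      fun v v0 => ?_))
    · rintro _ ⟨g, rfl⟩
      obtain ⟨g', hg'⟩ := hγ.rel g
      exact ⟨g', (h.ext g').trans (hi g trivial g' hg').symm⟩
    · obtain ⟨W, a1, -, a3, -⟩ := hγ.exists_mv (Submodule.span F {v})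
      have a4 := a3 (hat_ti v0)
      exact h.hat_ind a4 (P := (· ∈ ρ.range)) (fun _ _ _ _ => mul_mem) (fun g _ => ⟨g, h.ext g⟩)
        (fun w hw => ⟨_, cv w (a4 w hw w hw)⟩) (cj_le_iff_forall.1 (h.cj_Vh hn hγ hi (hat_ti v0) a1).le _
          (c_mem_Vh (Submodule.mem_span_singleton_self v)))

end Cfsg.Agent.StdU
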