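import Cfsg.Agent.StdU.WL
import Cfsg.Agent.StdU.Aut
import Cfsg.Agent.WfS.Def

/-! The local hypotheses of the wreath theorem for an image of `SU`. -/

set_option autoImplicit false
set_option linter.unusedSectionVars false

namespace Cfsg.Agent.StdU

open Subgroup Cfsg.Agent.Class.U Cfsg.Agent.KSG Cfsg.Agent.PLocal.Amb
open Cfsg.Agent.StdL (El Od Uq cjh)
open Cfsg.Agent.WfS (Zt)
open scoped commutatorElement

variable {F : Type*} [Field F] {m q : ℕ} [UF F q] [CharP F 2]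
  {G : Type*} [Group G] [Finite G] {r : SU m F q →* G} {P : Subgroup G}

local notation "𝐡" => hermForm m F q
local notation "⟪" p "⟫" => Submodule.span F {p}

variable {U : Subgroup (SU m F q)} {p e w w' : Fin m → F} {a a' b l : F}
  {s : F ≃+* F} {γ : Equiv.Perm (Fin m → F)} {n n' u : SU m F q} {x x' y z : G}

/-- `x` acts as `n` -/
def In (r : SU m F q →* G) (x : G) (n : SU m F q) : Prop := ∀ g, x * r g * x⁻¹ = r (n * g * n⁻¹)

theorem in_self (n : SU m F q) : In r (r n) n := fun g => by simp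

theorem In.mul (h : In r x n) (h' : In r x' n') : In r (x * x') (n * n') := fun g => by
  rw [_root_.mul_inv_rev, show x * x' * r g * (x'⁻¹ * x⁻¹) = x * (x' * r g * x'⁻¹) * x⁻¹ by group, h', h]
  congr 1; group

theorem In.inv (h : In r x n) : In r x⁻¹ n⁻¹ := fun g => by
  have := h (n⁻¹ * g * n⁻¹⁻¹)
  rw [show n * (n⁻¹ * g * n⁻¹⁻¹) * n⁻¹ = g by group] at this
  rw [← this]; group

theorem In.cent (h : In r x 1) : x ∈ 𝐂[r.range] := by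
  rintro _ ⟨g, rfl⟩
  have := h g
  rw [one_mul, inv_one, mul_one] at this
  exact (mul_inv_eq_iff_eq_mul.1 this).symm

theorem In.cm (h : In r x n) (g : SU m F q) : ⁅x, r g⁆ = ⁅r n, r g⁆ := by
  rw [commutatorElement_def, h, ← in_self, commutatorElement_def]

theorem sg_inv (h : Ok q p w a) : Ok q p w (a ^ q) ∧ (sg q p w a)⁻¹ = sg q p w (a ^ q) := by
  have h1 : Ok q p w (a ^ q) := ⟨h.uu, h.wu, by rw [lA_pow_pow, add_comm _ a, h.tr]⟩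
  refine ⟨h1, inv_eq_of_mul_eq_one_right ?_⟩
  rw [(h.mul h1).2, lA_add_self, h.tr]
  exact T_zero h.uu

theorem sg_fix (h : Ok q p w a) : sg q p w a • p = p := by
  rw [sg_smul h, h.uu, herm_comm_zero h.wu]; simp

theorem sg_eq_T (h : Ok q p w a) (hw : w ∈ ⟪p⟫) : ∃ b : F, b ^ q = b ∧ sg q p w a = T q p b := by
  obtain ⟨c, rfl⟩ := Submodule.mem_span_singleton.1 hw
  have o := (O2.self h.uu).smul 1 c
  rw [one_smul] at o
  have ha : a ^ q = a := (CharTwo.add_eq_zero.1 (by simpa [o.r] using h.tr)).symm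
  exact ⟨c + c ^ q + a, by rw [lA_add_pow, lA_add_pow, lA_pow_pow, ha, add_comm c], by
    rw [o.sg_eq ha, S_self h.uu, T_add h.uu (by rw [lA_add_pow, lA_pow_pow, add_comm]) ha]⟩

theorem SI.wp_fix (h : SI q s γ) {A : Submodule F (Fin m → F)} (h1 : w ∉ A) (h2 : l • γ w + w ∈ A)
    (h3 : l • γ (a • w) + a • w ∈ A) : s a = a := by
  by_contra c
  have := add_mem (Submodule.smul_mem _ (s a) h2) h3
  rw [h.semi.smul, smul_comm l, smul_add, add_add_add_comm, lA_add_self, zero_add,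
    ← add_smul, Submodule.smul_mem_iff _ fun e => c (CharTwo.add_eq_zero.1 e)] at this
  exact h1 this

/-- action on the group of `p` -/
theorem SI.cj_sg (h : SI q s γ) (hi : IndOn ⊤ r x γ) (h0 : p ≠ 0) (hl : γ p = l • p) (o : Ok q p w a) :
    Ok q p (l ^ q • γ w) (l * l ^ q * s a) ∧
      x * r (sg q p w a) * x⁻¹ = r (sg q p (l ^ q • γ w) (l * l ^ q * s a)) := by
  obtain ⟨h1, h2⟩ := h.rel_sg o
  have l0 : l ≠ 0 := fun c => h.lC_ne h0 (by rw [hl, c, zero_smul])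
  rw [hl] at h1 h2
  have h3 : 𝐡 (γ w) p = 0 := by
    have := h1.wu
    rwa [herm_smul_r, mul_eq_zero_iff_left (lA_pow_ne l0)] at this
  rw [h1.smul_left o.uu h3] at h2
  refine ⟨⟨o.uu, by rw [herm_smul_left, h3, mul_zero], ?_⟩, hi _ (mem_top _) _ h2⟩
  rw [herm_smul_left, herm_smul_r, mul_pow, mul_pow, lA_pow_pow]
  linear_combination l * l ^ q * h1.tr

theorem SI.cm (h : SI q s γ) (hi : IndOn ⊤ r x γ) (h0 : p ≠ 0) (hl : γ p = l • p) (o : Ok q p w a) :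
    ∃ a', Ok q p (l ^ q • γ w + w) a' ∧ ⁅x, r (sg q p w a)⁆ = r (sg q p (l ^ q • γ w + w) a') := by
  obtain ⟨h1, h2⟩ := h.cj_sg hi h0 hl o
  obtain ⟨h3, h4⟩ := h1.mul (sg_inv o).1
  exact ⟨_, h3, by rw [commutatorElement_def, h2, ← map_inv, ← map_mul, (sg_inv o).2, h4]⟩

theorem cm_su (h0 : p ≠ 0) (hu : u • p = p) (o : Ok q p w a) :
    ∃ a', Ok q p (u • w + w) a' ∧ ⁅r u, r (sg q p w a)⁆ = r (sg q p (u • w + w) a') := by
  have := (si_su u).cm (r := r) (x := r u) (l := 1) (fun g _ g' e => by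
    rw [e.uniq (rel_su u g), in_self]) h0 (by rw [one_smul]; exact hu) o
  rwa [one_pow, one_smul] at this

theorem In.big (h : In r x (sg q p w a)) (o : Ok q p w a) (hw : w ∉ ⟪p⟫) (hb : b ^ q = b) :
    ∃ w' a', Ok q p w' a' ∧ ⁅x, r (sg q p w' a')⁆ = r (T q p b) := by
  obtain ⟨ω, hω⟩ := exists_om (F := F) (q := q)
  obtain ⟨y, y1, y2⟩ := dual' (q := q) hw
  obtain ⟨a', o'⟩ := exists_ok (w := (ω * b) • y) o.uu (by
    rw [herm_smul_left, wl_perp1.1 y1, mul_zero])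
  refine ⟨_, a', o', ?_⟩
  rw [h.cm, ← map_commutatorElement, o.comm o', herm_smul_left, herm_smul_r, y2, herm_comm_one y2,
    mul_pow, hb]
  congr 2
  linear_combination b * hω

/-- the context -/
structure Lc (r : SU m F q →* G) (P : Subgroup G) (U : Subgroup (SU m F q)) (p e : Fin m → F) : Prop
    extends Rp r, Fg U p e where
  pg : IsPGroup 2 P
  nr : P ≤ 𝐍[r.range]
  syl : IsSyl 2 (P ⊓ r.range) r.range
  map : U.map r = P ⊓ r.range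
  pU : IsPGroup 2 U

namespace Lc

variable (h : Lc r P U p e)
include h

theorem mem (hu : u ∈ U) : r u ∈ P ⊓ r.range := h.map ▸ mem_map_of_mem r hu

theorem ex (hx : x ∈ P ⊓ r.range) : ∃ u ∈ U, r u = x := by rwa [← h.map] at hx

theorem nT : P ≤ 𝐍[P ⊓ r.range] := le_normalizer_inf le_normalizer h.nr

theorem nZ : P ≤ 𝐍[Zt (P ⊓ r.range)] := le_normalizer_inf h.nT (le_normalizer_centralizer h.nT)

theorem triv (hx : x ∈ P ⊓ r.range) (hc : x ∈ 𝐂[r.range]) : x = 1 := by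
  obtain ⟨hx, g, rfl⟩ := hx
  exact eq_one_of_isPGroup_of_coprime h.pg hx (Nat.coprime_two_right.2
    (h.toRp.odd_of_cent fun y => (hc _ ⟨y, rfl⟩).symm))

theorem memZ : z ∈ Zt (P ⊓ r.range) ↔ ∃ a : F, a ^ q = a ∧ z = r (T q p a) := by
  refine ⟨fun hz => ?_, ?_⟩
  · obtain ⟨u, hu, rfl⟩ := h.ex hz.1
    obtain ⟨a, h1, rfl⟩ := cent_Q h.o2.l h.p0 (h.fp u hu) fun y a o => h.toRp.comm (k := 2) (lC_four o)
      (hz.2 _ (h.mem (h.Q _ _ o))).symm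
    exact ⟨a, h1, rfl⟩
  · rintro ⟨a, ha, rfl⟩
    refine ⟨h.mem (h.Q _ _ (lA_ok_T h.o2.l ha)), fun x hx => ?_⟩
    obtain ⟨u, hu, rfl⟩ := h.ex hx
    rw [← map_mul, ← map_mul, (comm_T h.o2.l ha (h.fp u hu)).eq]

theorem sgZ (o : Ok q p w a) : r (sg q p w a) ∈ Zt (P ⊓ r.range) ↔ w ∈ ⟪p⟫ := by
  refine ⟨fun hz => ?_, fun hw => ?_⟩
  · obtain ⟨b, hb, e1⟩ := h.memZ.1 hz
    have o' := lA_ok_T h.o2.l hb
    obtain ⟨c, h1, -⟩ := o'.inj o h.p0 (h.toRp.eq_of_fix h.p0 (sg_fix o) (sg_fix o') e1).symm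
    rw [h1, zero_add]; exact wl_sp _ _
  · obtain ⟨b, hb, e1⟩ := sg_eq_T o hw
    exact h.memZ.2 ⟨b, hb, by rw [e1]⟩

theorem T_ne (ha : a ^ q = a) (h0 : a ≠ 0) : r (T q p a) ≠ 1 := fun c => T_ne_one h.o2.l h.p0 ha h0
  (h.toRp.eq_of_sq (T_sq h.o2.l ha) (mul_one _) (c.trans (map_one r).symm))

theorem act (hx : x ∈ P) : ∃ (s : F ≃+* F) (γ : Equiv.Perm (Fin m → F)) (l : F), SI q s γ ∧
    IndOn ⊤ r x γ ∧ γ p = l • p := by
  obtain ⟨s, γ, h1, h2⟩ := h.toRp.exists_ac (h.nr hx)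
  have h3 := h1.rel_T h.o2.l (one_pow q)
  have h4 := (h1.o2 h.o2).l
  rw [map_one] at h3
  obtain ⟨a, ha, e1⟩ := h.memZ.1 (conj_mem_of_mem_normalizer (h.nZ hx) (h.memZ.2 ⟨1, one_pow q, rfl⟩))
  have e2 := h.toRp.eq_of_sq (T_sq h.o2.l ha) (T_sq h4 (one_pow q))
    (e1.symm.trans (h2 _ (mem_top _) _ h3))
  obtain ⟨l, hl, -⟩ := T_eq_T h.o2.l h4 h.p0 ha (fun c => T_ne_one h4 (h1.lC_ne h.p0) (one_pow q)
    one_ne_zero (by rw [← e2, c, T_zero h.o2.l])) (one_pow q) e2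
  exact ⟨s, γ, l, h1, h2, hl⟩

theorem half (hx : x ∈ P) {H : Subgroup G}
    (hH : ∀ a ∈ P ⊓ r.range, ∀ b ∈ P ⊓ r.range, a ∈ H ∨ b ∈ H ∨ a * b ∈ H)
    (hc : ∀ w a w' a', Ok q p w a → Ok q p w' a' → r (sg q p w a) ∈ H →
      ⁅x, r (sg q p w a)⁆ = r (sg q p w' a') → w' ∈ ⟪p⟫) :
    ∃ w a, Ok q p w a ∧ In r x (sg q p w a) := by
  obtain ⟨s, γ, l, h1, h2, h3⟩ := h.act hx
  obtain ⟨-, w, a, o, h4⟩ := h1.of_half (by have := h.m6; omega) h.o2.l h.p0 h3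
    (Y := fun w => ∃ a, Ok q p w a ∧ r (sg q p w a) ∈ H) (fun a ha b hb => by
      obtain ⟨c, oc⟩ := exists_ok h.o2.l (wl_perp1.1 ha)
      obtain ⟨d, od⟩ := exists_ok h.o2.l (wl_perp1.1 hb)
      exact (hH _ (h.mem (h.Q _ _ oc)) _ (h.mem (h.Q _ _ od))).imp (fun e => ⟨c, oc, e⟩)
        (Or.imp (fun e => ⟨d, od, e⟩) fun e => ⟨_, (oc.mul od).1, by rwa [← (oc.mul od).2, map_mul]⟩))
    fun w _ ⟨a, o, e⟩ => by
      obtain ⟨a', o', e'⟩ := h1.cm h2 h.p0 h3 o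
      exact hc _ _ _ _ o o' e e'
  exact ⟨w, a, o, fun g => h2 _ (mem_top _) _ (h4 g)⟩

theorem two (hx : x ∈ P) {H : Subgroup G}
    (hH : ∀ a ∈ P ⊓ r.range, ∀ b ∈ P ⊓ r.range, a ∈ H ∨ b ∈ H ∨ a * b ∈ H)
    (hc : ∀ τ ∈ P ⊓ r.range, τ ∈ H → ⁅x, τ⁆ ∈ Zt (P ⊓ r.range)) :
    ∃ w a, Ok q p w a ∧ In r x (sg q p w a) ∧ w ∈ Submodule.span F {p, e} := by
  obtain ⟨w, a, o, h1⟩ := h.half hx hH fun w a w' a' o o' e1 e2 =>
    (h.sgZ o').1 (e2 ▸ hc _ (h.mem (h.Q _ _ o)) e1)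
  refine ⟨w, a, o, h1, h.toFg.mem_two (by have := h.m6; omega)
    (Y := fun w => ∃ a, Ok q e w a ∧ r (sg q e w a) ∈ H) (fun a ha b hb => ?_) fun y hy ⟨b, o', e1⟩ => ?_⟩
  · obtain ⟨c, oc⟩ := exists_ok h.o2.r (wl_perp.1 ha).2
    obtain ⟨d, od⟩ := exists_ok h.o2.r (wl_perp.1 hb).2
    exact (hH _ (h.mem (h.R _ _ oc (wl_perp.1 ha).1)) _ (h.mem (h.R _ _ od (wl_perp.1 hb).1))).imp
      (fun e => ⟨c, oc, e⟩)
      (Or.imp (fun e => ⟨d, od, e⟩) fun e => ⟨_, (oc.mul od).1, by rwa [← (oc.mul od).2, map_mul]⟩)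
  · have hu := h.R _ _ o' (wl_perp.1 hy).1
    obtain ⟨a', o2, e2⟩ := cm_su (r := r) h.p0 (h.fp _ hu) o
    refine ⟨b, o', (h.sgZ o2).1 ?_⟩
    rw [← e2, ← commutatorElement_inv, ← h1.cm]
    exact inv_mem (hc _ (h.mem hu) e1)

theorem cent (o : Ok q p w a) (hx : In r x (sg q p w a)) (hw : w ∈ ⟪p⟫) :
    ∃ z ∈ Zt (P ⊓ r.range), x * z ∈ 𝐂[r.range] := by
  obtain ⟨b, hb, e1⟩ := sg_eq_T o hw
  have := hx.mul (in_self (sg q p w a))
  rw [e1, T_sq h.o2.l hb] at this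
  exact ⟨_, h.memZ.2 ⟨b, hb, rfl⟩, this.cent⟩

theorem c2 : Zt (P ⊓ r.range) ≤ ⁅P ⊓ r.range, P ⊓ r.range⁆ := fun z hz => by
  obtain ⟨b, hb, rfl⟩ := h.memZ.1 hz
  obtain ⟨w, a, o, e1⟩ := (in_self (r := r) _).big h.o2.ok h.ne hb
  exact e1 ▸ commutator_mem_commutator (h.mem (h.Q _ _ h.o2.ok)) (h.mem (h.Q _ _ o))

/-- the second centre -/
def Z2 : Subgroup G where
  carrier := {y | y ∈ P ⊓ r.range ∧ ∀ τ ∈ P ⊓ r.range, ⁅y, τ⁆ ∈ Zt (P ⊓ r.range)}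
  one_mem' := ⟨one_mem _, fun τ _ => by rw [commutatorElement_one_left]; exact one_mem _⟩
  mul_mem' {a b} ha hb := ⟨mul_mem ha.1 hb.1, fun τ hτ => by
    rw [show ⁅a * b, τ⁆ = a * ⁅b, τ⁆ * a⁻¹ * ⁅a, τ⁆ by simp only [commutatorElement_def]; group]
    exact mul_mem (conj_mem_of_mem_normalizer (h.nZ ha.1.1) (hb.2 τ hτ)) (ha.2 τ hτ)⟩
  inv_mem' {a} ha := ⟨inv_mem ha.1, fun τ hτ => by
    rw [show ⁅a⁻¹, τ⁆ = a⁻¹ * ⁅a, τ⁆⁻¹ * a by simp only [commutatorElement_def]; group]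
    exact inv_conj_mem_of_mem_normalizer (h.nZ ha.1.1) (inv_mem (ha.2 τ hτ))⟩

theorem oe (a : F) : O2 q p (a • e) := by simpa using h.o2.smul 1 a

theorem S_mem (a : F) : r (S q p (a • e)) ∈ h.Z2 := ⟨h.mem (h.Q _ _ (h.oe a).ok), fun τ hτ => by
  obtain ⟨u, hu, rfl⟩ := h.ex hτ
  obtain ⟨a', o2, e2⟩ := cm_su (r := r) h.p0 (h.fp _ hu) (h.oe a).ok
  rw [← commutatorElement_inv]
  refine inv_mem (e2 ▸ (h.sgZ o2).2 ?_)
  rw [SU_smul_comm, ← smul_add]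
  exact Submodule.smul_mem _ _ (h.fe u hu)⟩

theorem S_inj (hz : r (S q p (a • e)) * r (S q p (b • e)) ∈ Zt (P ⊓ r.range)) : a = b := by
  rw [← map_mul, ← S_add (h.oe a) (h.oe b) ((O2.self h.o2.r).smul a b), ← add_smul] at hz
  by_contra c
  exact h.ne ((Submodule.smul_mem_iff _ fun e => c (CharTwo.add_eq_zero.1 e)).1
    ((h.sgZ (h.oe _).ok).1 hz))

theorem h4 : ∃ A ≤ P ⊓ r.range, (∀ a ∈ A, a * a = 1) ∧ P ≤ 𝐍[A] ∧ 2 < Nat.card A := by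
  refine ⟨h.Z2, fun _ e => e.1, fun y hy => ?_, le_normalizer_iff_cj.2 fun x hx =>
    cj_le_iff_forall.2 fun y hy => ⟨conj_mem_of_mem_normalizer (h.nT hx) hy.1, fun τ hτ => ?_⟩, ?_⟩
  · obtain ⟨w, a, o, h1, h2⟩ := h.two hy.1.1 (H := ⊤) (fun _ _ _ _ => .inl (mem_top _))
      fun τ hτ _ => hy.2 τ hτ
    have := h1.mul h1
    rw [o.sq, h.o2.ti w h2 w h2, T_zero h.o2.l] at this
    exact h.triv (mul_mem hy.1 hy.1) this.cent
  · rw [show ⁅x * y * x⁻¹, τ⁆ = x * ⁅y, x⁻¹ * τ * x⁆ * x⁻¹ by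
      simp only [commutatorElement_def]; group]
    exact conj_mem_of_mem_normalizer (h.nZ hx) (hy.2 _ (inv_conj_mem_of_mem_normalizer (h.nT hx) hτ))
  · have h1 := Nat.card_le_card_of_injective (fun a : F => (⟨_, h.S_mem a⟩ : h.Z2)) fun a b e =>
      h.S_inj (by
        rw [show r (S q p (a • _)) = _ from congrArg Subtype.val e, ← map_mul, S_sq (h.oe b), map_one]
        exact one_mem _)
    have h2 := two_le_q F q
    rw [UF.card_eq (q := q)] at h1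
    nlinarith

theorem lin (hx : x ∈ P) (hA : AcU r x 1) : x ∈ (P ⊓ r.range) ⊔ (P ⊓ 𝐂[r.range]) := by
  obtain ⟨k, hk⟩ := isPGroup_iff.1 h.pg x hx
  obtain ⟨y, y1, y2⟩ := h.toRp.inner hA (k := k) fun y => by rw [hk, one_mul, mul_one]
  have h1 : r y ∈ P ⊓ r.range := zpowers_le.1 (h.syl.le_of_normalizes
    (isPGroup_zpowers ⟨k, by rw [← map_pow, y1, map_one]⟩) (zpowers_le.2 ⟨y, rfl⟩)
    (zpowers_le.2 (mem_normalizer_of_cj_le (cj_le_iff_forall.2 fun τ hτ => by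
      have := conj_mem_of_mem_normalizer (h.nT hx) hτ
      obtain ⟨g, rfl⟩ := hτ.2
      rwa [y2, ← in_self] at this))))
  have h2 := (in_self y).inv.mul y2
  rw [inv_mul_cancel] at h2
  have h3 : (r y)⁻¹ * x ∈ P ⊓ 𝐂[r.range] := ⟨P.mul_mem (P.inv_mem h1.1) hx, In.cent h2⟩
  simpa using mul_mem (mem_sup_left h1) (mem_sup_right h3)

theorem sq (hx : x ∈ P) (hc : x ∈ 𝐂[Zt (P ⊓ r.range)]) : ∃ s, AcU r x s ∧ s * s = 1 := by
  obtain ⟨s, γ, l, h1, h2, h3⟩ := h.act hx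
  have key : ∀ a : F, a ^ q = a → l * l ^ q * s a = a := fun a ha => by
    obtain ⟨o, e1⟩ := h1.cj_sg h2 h.p0 h3 (lA_ok_T h.o2.l ha)
    rw [h1.semi.zero, smul_zero] at o e1
    have hb : (l * l ^ q * s a) ^ q = l * l ^ q * s a :=
      (CharTwo.add_eq_zero.1 (by simpa [herm_zero_left] using o.tr)).symm
    rw [← T, mul_inv_eq_iff_eq_mul.2 (hc _ (h.memZ.2 ⟨a, ha, rfl⟩)).symm] at e1
    exact T_inj h.o2.l h.p0 hb ha (h.toRp.eq_of_sq (T_sq h.o2.l hb) (T_sq h.o2.l ha) e1.symm)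
  have k1 := key 1 (one_pow q)
  rw [map_one, mul_one] at k1
  simp only [k1, one_mul] at key
  refine ⟨s, ⟨γ, h1, h2⟩, RingEquiv.ext fun a => ?_⟩
  have e1 := key (a + a ^ q) (by rw [lA_add_pow, lA_pow_pow, add_comm])
  have e2 := key (a * a ^ q) (by rw [mul_pow, lA_pow_pow, mul_comm])
  rw [map_add, map_pow] at e1
  rw [map_mul, map_pow] at e2
  have e3 : (s a + a) * (s a + a ^ q) = 0 := by
    have : (2 : F) = 0 := CharTwo.two_eq_zero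
    linear_combination (-s a) * e1 - e2 + (s a * s a + s a * s a ^ q) * this
  change s (s a) = a
  rcases mul_eq_zero.1 e3 with e | e <;> rw [CharTwo.add_eq_zero] at e
  · rw [e, e]
  · rw [e, map_pow, e, lA_pow_pow]

theorem gr (h1 : P ≤ 𝐂[Zt (P ⊓ r.range)]) (h2 : P ⊓ 𝐂[r.range] ≤ 𝐂[P]) {g : G} (g1 : g ∈ 𝐍[P])
    (g2 : g ∈ 𝐍[P ⊓ 𝐂[r.range]]) (g3 : g ∈ 𝐍[Zt (P ⊓ r.range)]) :
    cj(g, P ⊓ r.range) ≤ (P ⊓ r.range) ⊔ (P ⊓ 𝐂[r.range]) := by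
  have : Finite F := UF.finite q
  have s3 : ∀ a ∈ P, ∀ b ∈ P, a ∈ (P ⊓ r.range) ⊔ (P ⊓ 𝐂[r.range]) ∨
      b ∈ (P ⊓ r.range) ⊔ (P ⊓ 𝐂[r.range]) ∨ a * b ∈ (P ⊓ r.range) ⊔ (P ⊓ 𝐂[r.range]) :=
    fun a ha b hb => by
      obtain ⟨s, a1, a2⟩ := h.sq ha (h1 ha)
      obtain ⟨s', b1, b2⟩ := h.sq hb (h1 hb)
      rcases aut_sq (q := q) a2 with rfl | a3
      · exact .inl (h.lin ha a1)
      rcases aut_sq (q := q) b2 with rfl | b3
      · exact .inr (.inl (h.lin hb b1))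
      obtain rfl : s = s' := RingEquiv.ext fun c => (a3 c).trans (b3 c).symm
      exact .inr (.inr (h.lin (mul_mem ha hb) (a2 ▸ a1.mul b1)))
  have s4 : ∀ y ∈ h.Z2, ∀ τ ∈ cj(g, (P ⊓ r.range) ⊔ (P ⊓ 𝐂[r.range])),
      ⁅g * y * g⁻¹, τ⁆ ∈ Zt (P ⊓ r.range) := fun y hy τ hτ => by
    obtain ⟨τ, hτ', rfl⟩ := mem_cj_iff_exists.1 hτ
    obtain ⟨a, ha, d, hd, rfl⟩ := (mem_sup_of_le_normalizer_left (inf_le_left.trans h.nT)).1 hτ'
    have e1 : y * d = d * y := h2 hd y hy.1.1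
    rw [show ⁅g * y * g⁻¹, g * (a * d) * g⁻¹⁆ = g * (y * a * (d * y⁻¹ * d⁻¹) * a⁻¹) * g⁻¹ by
      simp only [commutatorElement_def]; group, show d * y⁻¹ * d⁻¹ = y⁻¹ by
        rw [mul_inv_eq_iff_eq_mul, mul_inv_eq_iff_eq_mul, mul_assoc, ← e1, inv_mul_cancel_left]]
    exact conj_mem_of_mem_normalizer g3 (hy.2 a ha)
  have yP : ∀ a : F, g * r (S q p (a • e)) * g⁻¹ ∈ P := fun a =>
    conj_mem_of_mem_normalizer g1 (h.S_mem a).1.1
  have s5 : ∀ a : F, ∃ α β c : F, Ok q p (β • p + α • e) c ∧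
      In r (g * r (S q p (a • e)) * g⁻¹) (sg q p (β • p + α • e) c) := fun a => by
    obtain ⟨w, c, o, e1, e2⟩ := h.two (yP a) (H := cj(g, (P ⊓ r.range) ⊔ (P ⊓ 𝐂[r.range])))
      (fun a ha b hb => by
        have := s3 _ (inv_conj_mem_of_mem_normalizer g1 ha.1) _ (inv_conj_mem_of_mem_normalizer g1 hb.1)
        rwa [show g⁻¹ * a * g * (g⁻¹ * b * g) = g⁻¹ * (a * b) * g by group, ← mem_cj, ← mem_cj,
          ← mem_cj] at this)
      fun τ _ hτ => s4 _ (h.S_mem a) τ hτ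
    obtain ⟨β, α, rfl⟩ := Submodule.mem_span_pair.1 e2
    exact ⟨α, β, c, o, e1⟩
  choose α β c o i using s5
  have inj : Function.Injective α := fun a b e1 => by
    have e2 := (i a).mul (i b)
    obtain ⟨o', e3⟩ := (o a).mul (o b)
    rw [e3] at e2
    obtain ⟨z, z1, z2⟩ := h.cent o' e2 (by
      rw [e1, add_add_add_comm, lA_add_self, add_zero, ← add_smul]; exact wl_sp _ _)
    have z3 := inv_conj_mem_of_mem_normalizer g3 z1
    have z4 := inv_conj_mem_of_mem_normalizer g2 ⟨mul_mem (mul_mem (yP a) (yP b)) z1.1.1, z2⟩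
    rw [show ∀ u v : G, g⁻¹ * (g * u * g⁻¹ * (g * v * g⁻¹) * z) * g = u * v * (g⁻¹ * z * g) from
      fun u v => by group] at z4
    exact h.S_inj ((mul_mem_cancel_right z3).1
      (h.triv (mul_mem (mul_mem (h.S_mem a).1 (h.S_mem b).1) z3.1) z4.2 ▸ one_mem _))
  intro x hx
  have xP : x ∈ P := cj_le_of_mem_normalizer inf_le_left g1 hx
  obtain ⟨s, γ, l, a1, a2, a3⟩ := h.act xP
  have key : ∀ d : F, l ^ q • γ (d • e) + d • e ∈ ⟪p⟫ := fun d => by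
    obtain ⟨a, rfl⟩ := Finite.injective_iff_surjective.1 inj d
    obtain ⟨a', o', e1⟩ := a1.cm a2 h.p0 a3 (o a)
    have e2 := (in_self (sg q p (β a • p + α a • e) (c a))).inv.mul (i a)
    rw [inv_mul_cancel] at e2
    have e3 := h2 ⟨P.mul_mem (P.inv_mem (h.mem (h.Q _ _ (o a))).1) (yP a), e2.cent⟩ x xP
    have e4 := inv_mem (s4 _ (h.S_mem a) x (cj_mono g le_sup_left hx))
    rw [commutatorElement_inv] at e4
    generalize g * r (S q p (a • e)) * g⁻¹ = y at e3 e4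
    have e5 : ⁅x, y⁆ = ⁅x, r (sg q p (β a • p + α a • e) (c a))⁆ := by
      generalize r (sg q p (β a • p + α a • e) (c a)) = n at e3
      calc ⁅x, y⁆ = x * n * (n⁻¹ * y * x⁻¹) * y⁻¹ := by simp only [commutatorElement_def]; group
        _ = _ := by
          rw [mul_inv_eq_iff_eq_mul.2 (show n⁻¹ * y = x⁻¹ * (n⁻¹ * y) * x by
            rw [mul_assoc, ← e3, inv_mul_cancel_left]), commutatorElement_def]
          group
    have e6 := (h.sgZ o').1 (e1 ▸ e5 ▸ e4)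
    rw [a1.semi.add, smul_add, add_add_add_comm, a1.semi.smul, a3, smul_smul, smul_smul, ← add_smul,
      Submodule.add_mem_iff_right _ (wl_sp _ _)] at e6
    exact e6
  obtain rfl : s = 1 := RingEquiv.ext fun d => a1.wp_fix h.ne (by simpa using key 1) (key d)
  exact h.lin xP ⟨γ, a1, a2⟩

theorem K_mem (hw : w ∈ perp q (Submodule.span F {p, e})) (o : Ok q p w a) :
    r (sg q p w a) ∈ ⁅P ⊓ r.range, P ⊓ r.range⁆ := by
  let Y : (Fin m → F) → Prop := fun w => ∃ a, Ok q p w a ∧ r (sg q p w a) ∈ ⁅P ⊓ r.range, P ⊓ r.range⁆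
  have add : ∀ a b, Y a → Y b → Y (a + b) := fun a b ⟨c, oc, e1⟩ ⟨d, od, e2⟩ =>
    ⟨_, (oc.mul od).1, by rw [← (oc.mul od).2, map_mul]; exact mul_mem e1 e2⟩
  have cm : ∀ u ∈ U, ∀ y, 𝐡 y p = 0 → Y (u • y + y) := fun u hu y hy => by
    obtain ⟨a, o⟩ := exists_ok h.o2.l hy
    obtain ⟨a', o', e1⟩ := cm_su (r := r) h.p0 (h.fp u hu) o
    exact ⟨a', o', e1 ▸ commutator_mem_commutator (h.mem hu) (h.mem (h.Q _ _ o))⟩
  obtain ⟨f, f1, f2⟩ := dual' (q := q) h.ne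
  have f3 := wl_perp1.1 f1
  have f4 := herm_comm_one f2
  have z : ∀ x y : Fin m → F, x + y + x = y := fun x y => by
    rw [add_comm, ← add_assoc, lA_add_self, zero_add]
  have ye : ∀ c : F, Y (c • e) := fun c => by
    have := cm _ (h.R _ _ (lA_ok_T h.o2.r (one_pow q)) (herm_zero_left _)) (c • f) (by
      rw [herm_smul_left, f3, mul_zero])
    rwa [← T, T_smul h.o2.r (one_pow q), z, herm_smul_left, f4, one_mul, mul_one] at this
  obtain ⟨b, ob⟩ := exists_ok h.o2.r (wl_perp.1 hw).2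
  have := add _ _ (cm _ (h.R _ _ ob (wl_perp.1 hw).1) f f3) (ye (𝐡 f w + b))
  rw [sg_smul ob, f4, one_smul, mul_one, add_assoc f, add_assoc f, z, add_assoc w, ← add_smul,
    add_assoc, lA_add_self, add_zero] at this
  obtain ⟨c, oc, e1⟩ := this
  obtain ⟨o1, e2⟩ := o.mul (sg_inv oc).1
  have e3 := h.c2 ((h.sgZ o1).2 (by rw [lA_add_self]; exact zero_mem _))
  rw [← e2, ← (sg_inv oc).2, map_mul, map_inv] at e3
  exact (mul_mem_cancel_right (inv_mem e1)).1 e3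

theorem cent_K (hx : x ∈ P ⊓ 𝐂[⁅P ⊓ r.range, P ⊓ r.range⁆]) :
    ∃ v ∈ VW q (Submodule.span F {p, e}), In r x v := by
  obtain ⟨s, γ, l, a1, a2, a3⟩ := h.act hx.1
  have c : ∀ w ∈ perp q (Submodule.span F {p, e}), ∀ a, Ok q p w a →
      x * r (sg q p w a) = r (sg q p w a) * x := fun w hw a o => (hx.2 _ (h.K_mem hw o)).symm
  have key : ∀ d : F, l ^ q • γ (d • e) + d • e ∈ ⟪p⟫ := fun d => by
    obtain ⟨a', o', e1⟩ := a1.cm a2 h.p0 a3 (h.oe d).ok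
    rw [commutatorElement_eq_one_iff_mul_comm.2 (c _ (h.o2.ti.le_perp
      (Submodule.smul_mem _ _ (wl_e p e))) _ (h.oe d).ok)] at e1
    exact (h.sgZ o').1 (e1 ▸ one_mem _)
  obtain rfl : s = 1 := RingEquiv.ext fun d => a1.wp_fix h.ne (by simpa using key 1) (key d)
  have nl : l * l ^ q = 1 := by
    have o := lA_ok_T h.o2.l (one_pow q)
    have e1 := (a1.rel_T h.o2.l (one_pow q)).uniq
      (h.toRp.rel_self a1 a2 (k := 2) (lC_four o) (c _ (zero_mem _) _ o))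
    rw [a3, map_one, T_smul_vec h.o2.l (one_pow q), mul_one] at e1
    exact T_inj h.o2.l h.p0 (by rw [mul_pow, lA_pow_pow, mul_comm]) (one_pow q) e1
  obtain ⟨δ, d1, d2, d3⟩ := a1.scal (a := l ^ q) (by rw [lA_pow_pow, mul_comm, nl])
  obtain ⟨v, v1, v2⟩ := d1.lC_VW (by have := h.m6; omega) h.o2.ti (d1.lC_sg h.p0 h.o2.l (by
    rw [d2, a3, smul_smul, mul_comm, nl, one_smul]) (fun y hy => (wl_perp.1 hy).1)
      fun y hy a o => (d3 _ _).2 (h.toRp.rel_self a1 a2 (k := 2) (lC_four o) (c y hy a o)))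
  exact ⟨v, v1, fun g => a2 _ (mem_top _) _ ((d3 _ _).1 fun y => by
    rw [v2, v2, mul_smul, mul_smul, inv_smul_smul])⟩

theorem loc : WfS.Loc r.range P := by
  refine ⟨fun x hx hc => ?_, h.c2, fun K hK hn => ?_, h.h4, fun h1 h2 g g1 g2 g3 => h.gr h1 h2 g1 g2 g3,
    fun a ha b hb a1 b1 => ?_, .inr ⟨_, h.c2, le_rfl, le_normalizer_commutator h.nT h.nT,
      commutator_le.2 fun x hx y hy => ?_⟩⟩
  · have c : ∀ w a, Ok q p w a → ⁅x, r (sg q p w a)⁆ = 1 := fun w a o =>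
      commutatorElement_eq_one_iff_mul_comm.2 (hc _ (h.mem (h.Q _ _ o))).symm
    obtain ⟨w, a, o, h1⟩ := h.half hx (H := ⊤) (fun _ _ _ _ => .inl (mem_top _))
      fun w a w' a' o o' _ e1 => (h.sgZ o').1 (e1 ▸ c w a o ▸ one_mem _)
    refine h.cent o h1 (by_contra fun hw => ?_)
    obtain ⟨w', a', o', e1⟩ := h1.big o hw (one_pow q)
    exact h.T_ne (one_pow q) one_ne_zero (e1.symm.trans (c _ _ o'))
  · have c : ∀ x ∈ K, ∀ w a, Ok q p w a → ⁅x, r (sg q p w a)⁆ ∈ K := fun x hx w a o => by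
      rw [commutatorElement_def, mul_assoc, mul_assoc, ← mul_assoc (r _)]
      exact mul_mem hx (conj_mem_of_mem_normalizer (hn (h.mem (h.Q _ _ o))) (inv_mem hx))
    by_cases hb : ∃ x ∈ K, ∃ w a, Ok q p w a ∧ In r x (sg q p w a) ∧ w ∉ ⟪p⟫
    · obtain ⟨x, hx, w, a, o, h1, h2⟩ := hb
      refine .inr fun z hz => ?_
      obtain ⟨b, hb, rfl⟩ := h.memZ.1 hz
      obtain ⟨w', a', o', e1⟩ := h1.big o h2 hb
      exact e1 ▸ c x hx _ _ o'
    push Not at hb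
    refine .inl fun x hx τ hτ => ?_
    obtain ⟨w, a, o, h1⟩ := h.half (hK hx) (H := ⊤) (fun _ _ _ _ => .inl (mem_top _))
      fun w a w' a' o o' _ e1 => hb _ (e1 ▸ c x hx w a o) _ _ o' (in_self _)
    obtain ⟨z, z1, z2⟩ := h.cent o h1 (hb x hx w a o h1)
    have := z2 τ hτ.2
    rwa [mul_assoc, ← z1.2 τ hτ, ← mul_assoc, ← mul_assoc, mul_left_inj] at this
  · obtain ⟨a, a2, rfl⟩ := h.memZ.1 ha
    obtain ⟨b, b2, rfl⟩ := h.memZ.1 hb
    have a0 : a ≠ 0 := fun c => a1 (by rw [c, T_zero h.o2.l, map_one])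
    have b0 : b ≠ 0 := fun c => b1 (by rw [c, T_zero h.o2.l, map_one])
    obtain ⟨μ, hμ⟩ := exists_norm (q := q) (a := b / a) (by rw [div_pow, a2, b2])
    obtain ⟨g, hg⟩ := exists_SU_smul_eq (q := q) (by have := h.m6; omega) h.p0 (smul_ne_zero
      (left_ne_zero_of_mul (hμ ▸ div_ne_zero b0 a0)) h.p0) h.o2.l ((O2.self h.o2.l).smul μ μ).l
    exact ⟨r g, ⟨g, rfl⟩, by
      rw [in_self, T_conj h.o2.l a2, hg, T_smul_vec h.o2.l a2, hμ, div_mul_cancel₀ _ a0]⟩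
  · obtain ⟨v, v1, v2⟩ := h.cent_K hx
    obtain ⟨v', v3, v4⟩ := h.cent_K hy
    have := ((v2.mul v4).mul v2.inv).mul v4.inv
    rw [h.o2.ti.el.comm v1 v3, mul_inv_cancel_right, mul_inv_cancel] at this
    exact this.cent

end Lc

theorem Rp.loc (h : Rp r) (hP : IsPGroup 2 P) (hN : P ≤ 𝐍[r.range])
    (hS : IsSyl 2 (P ⊓ r.range) r.range) : WfS.Loc r.range P := by
  obtain ⟨Q, h1, h2, -⟩ := h.lift_sub hS.pgrp hS.le
  obtain ⟨U, h3, h4⟩ := exists_isSyl_ge h1 le_top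
  obtain ⟨p, e, h5⟩ := exists_fg (by have := h.m6; omega) h3
  exact Lc.loc ⟨h, h5, hP, hN, hS, hS.eq (h3.pgrp.map r) (h2 ▸ map_mono h4) (map_le_range _ _),
    h3.pgrp⟩

end Cfsg.Agent.StdU
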